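import Cfsg.Agent.Bryukh6.Norm

/-!
# Components of a normal odd-order subgroup of class two in characteristic two
-/

set_option autoImplicit false

namespace Cfsg.Agent.Bryukh6

variable {H : Type*} [Group H] {K : Type*} [Field K] {V : Type*} [AddCommGroup V] [Module K V]

/-- weights: functions on `T`, acted on by conjugation -/
def Wt (T : Subgroup H) (K : Type*) : Type _ := T → K

instance (T : Subgroup H) [T.Normal] (K : Type*) : MulAction H (Wt T K) where
  smul h χ := fun t => χ (MulAut.conjNormal h⁻¹ t)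
  one_smul χ := funext fun t => congrArg χ (by rw [inv_one, map_one]; rfl)
  mul_smul g h χ := funext fun t => congrArg χ (by rw [mul_inv_rev, map_mul]; rfl)

theorem wt_smul (T : Subgroup H) [T.Normal] (h : H) (χ : Wt T K) (t : T) :
    (h • χ) t = χ (MulAut.conjNormal h⁻¹ t) := rfl

variable (σ : H →* Module.End K V) (T : Subgroup H)

/-- the sum of the conjugates -/
noncomputable def avg [Finite H] (t : T) : Module.End K V :=
  letI := Fintype.ofFinite T
  ∑ s : T, σ ((s * t * s⁻¹ : T) : H)

/-- the components -/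
noncomputable def comp [Finite H] (χ : Wt T K) : Submodule K V :=
  ⨅ t : T, (avg σ T t).maxGenEigenspace (χ t)

/-- the elements fixing `χ` and acting on its component trivially on `T` -/
noncomputable def triv [Finite H] [T.Normal] (χ : Wt T K) : Subgroup H where
  carrier := {h | h • χ = χ ∧ ∀ t : T, ∀ v ∈ comp σ T χ, σ h (σ t v) = σ t (σ h v)}
  one_mem' := ⟨one_smul _ _, fun t v _ => by simp⟩
  mul_mem' := fun {a b} ha hb => by
    refine ⟨by rw [mul_smul, hb.1, ha.1], fun t v hv => ?_⟩
    rw [map_mul, Module.End.mul_apply, Module.End.mul_apply, hb.2 t v hv]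
    refine ha.2 t (σ b v) ?_
    have := hb.1
    rw [comp, Submodule.mem_iInf] at hv ⊢
    intro s
    have hs : SemiconjBy (σ b) (avg σ T (MulAut.conjNormal b⁻¹ s)) (avg σ T s) := by
      unfold SemiconjBy avg
      letI := Fintype.ofFinite T
      rw [Finset.mul_sum, Finset.sum_mul]
      refine Fintype.sum_equiv (MulAut.conjNormal b).toEquiv _ _ fun x => ?_
      rw [← map_mul, ← map_mul]
      congr 1
      simp only [MulEquiv.toEquiv_eq_coe, EquivLike.coe_coe, Subgroup.coe_mul, Subgroup.coe_inv,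
        MulAut.conjNormal_apply]
      group
    rw [← this, wt_smul]
    have h1 := hv (MulAut.conjNormal b⁻¹ s)
    rw [Module.End.mem_maxGenEigenspace] at h1 ⊢
    obtain ⟨k, hk⟩ := h1
    refine ⟨k, ?_⟩
    have h2 := (hs.sub_right (show SemiconjBy (σ b) (χ (MulAut.conjNormal b⁻¹ s) • 1)
      (χ (MulAut.conjNormal b⁻¹ s) • 1) from by
        unfold SemiconjBy; rw [mul_smul_comm, smul_mul_assoc, mul_one, one_mul])).pow_right k
    have h3 := LinearMap.congr_fun h2 v
    rw [Module.End.mul_apply, Module.End.mul_apply, hk, map_zero] at h3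
    exact h3.symm
  inv_mem' := fun {a} ha => by
    have e1 : a⁻¹ • χ = χ := inv_smul_eq_iff.2 ha.1.symm
    refine ⟨e1, fun t v hv => ?_⟩
    have hmem : σ a⁻¹ v ∈ comp σ T χ := by
      rw [comp, Submodule.mem_iInf] at hv ⊢
      intro s
      have hs : SemiconjBy (σ a⁻¹) (avg σ T (MulAut.conjNormal a s)) (avg σ T s) := by
        unfold SemiconjBy avg
        letI := Fintype.ofFinite T
        rw [Finset.mul_sum, Finset.sum_mul]
        refine Fintype.sum_equiv (MulAut.conjNormal a⁻¹).toEquiv _ _ fun x => ?_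
        rw [← map_mul, ← map_mul]
        congr 1
        simp only [MulEquiv.toEquiv_eq_coe, EquivLike.coe_coe, Subgroup.coe_mul, Subgroup.coe_inv,
          MulAut.conjNormal_apply]
        group
      have h0 : χ s = χ (MulAut.conjNormal a s) := by
        conv_lhs => rw [← e1]
        rw [wt_smul, inv_inv]
      rw [h0]
      have h1 := hv (MulAut.conjNormal a s)
      rw [Module.End.mem_maxGenEigenspace] at h1 ⊢
      obtain ⟨k, hk⟩ := h1
      refine ⟨k, ?_⟩
      have h2 := (hs.sub_right (show SemiconjBy (σ a⁻¹) (χ (MulAut.conjNormal a s) • 1)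
        (χ (MulAut.conjNormal a s) • 1) from by
          unfold SemiconjBy; rw [mul_smul_comm, smul_mul_assoc, mul_one, one_mul])).pow_right k
      have h3 := LinearMap.congr_fun h2 v
      rw [Module.End.mul_apply, Module.End.mul_apply, hk, map_zero] at h3
      exact h3.symm
    have h4 := congrArg (σ a⁻¹) (ha.2 t (σ a⁻¹ v) hmem)
    have c1 : ∀ u, σ a (σ a⁻¹ u) = u := fun u => by
      rw [← Module.End.mul_apply, ← map_mul, mul_inv_cancel, map_one, Module.End.one_apply]
    have c2 : ∀ u, σ a⁻¹ (σ a u) = u := fun u => by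
      rw [← Module.End.mul_apply, ← map_mul, inv_mul_cancel, map_one, Module.End.one_apply]
    rw [c2, c1] at h4
    exact h4.symm

variable {σ T}

variable [Finite H] [T.Normal]

theorem semiconj_avg (h : H) (t : T) :
    SemiconjBy (σ h) (avg σ T (MulAut.conjNormal h⁻¹ t)) (avg σ T t) := by
  unfold SemiconjBy avg
  letI := Fintype.ofFinite T
  rw [Finset.mul_sum, Finset.sum_mul]
  refine Fintype.sum_equiv (MulAut.conjNormal h).toEquiv _ _ fun x => ?_
  rw [← map_mul, ← map_mul]
  congr 1
  simp only [MulEquiv.toEquiv_eq_coe, EquivLike.coe_coe, Subgroup.coe_mul, Subgroup.coe_inv,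
    MulAut.conjNormal_apply]
  group

theorem smul_mem_comp (h : H) (χ : Wt T K) (v : V) (hv : v ∈ comp σ T χ) :
    σ h v ∈ comp σ T (h • χ) := by
  rw [comp, Submodule.mem_iInf] at hv ⊢
  intro s
  rw [wt_smul]
  have h1 := hv (MulAut.conjNormal h⁻¹ s)
  rw [Module.End.mem_maxGenEigenspace] at h1 ⊢
  obtain ⟨k, hk⟩ := h1
  refine ⟨k, ?_⟩
  have h2 := ((semiconj_avg h s).sub_right (show SemiconjBy (σ h) (χ (MulAut.conjNormal h⁻¹ s) • 1)
    (χ (MulAut.conjNormal h⁻¹ s) • 1) from by
      unfold SemiconjBy; rw [mul_smul_comm, smul_mul_assoc, mul_one, one_mul])).pow_right k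
  have h3 := LinearMap.congr_fun h2 v
  rw [Module.End.mul_apply, Module.End.mul_apply, hk, map_zero] at h3
  exact h3.symm

theorem commute_avg (u t : T) : Commute (σ u) (avg σ T t) := by
  unfold avg
  letI := Fintype.ofFinite T
  unfold Commute SemiconjBy
  rw [Finset.mul_sum, Finset.sum_mul]
  refine Fintype.sum_equiv (Equiv.mulLeft u) _ _ fun x => ?_
  rw [← map_mul, ← map_mul]
  congr 1
  simp only [Equiv.coe_mulLeft, Subgroup.coe_mul, Subgroup.coe_inv]
  group

theorem commute_avg_avg (t t' : T) : Commute (avg σ T t) (avg σ T t') := by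
  conv in avg σ T t => unfold avg
  exact Commute.sum_left _ _ _ fun s _ => commute_avg _ t'

theorem comp_indep : iSupIndep (comp σ T) :=
  Module.End.independent_iInf_maxGenEigenspace_of_forall_mapsTo (avg σ T) fun i j φ =>
    Module.End.mapsTo_maxGenEigenspace_of_comm (commute_avg_avg j i) φ

theorem comp_iSup [IsAlgClosed K] [FiniteDimensional K V] : ⨆ χ, comp σ T χ = ⊤ :=
  Module.End.iSup_iInf_maxGenEigenspace_eq_top_of_forall_mapsTo (avg σ T)
    (fun i j φ => Module.End.mapsTo_maxGenEigenspace_of_comm (commute_avg_avg j i) φ)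
    fun t => Module.End.iSup_maxGenEigenspace_eq_top _

theorem mem_comp_T {χ : Wt T K} (u : T) {v : V} (hv : v ∈ comp σ T χ) :
    σ u v ∈ comp σ T χ := by
  rw [comp, Submodule.mem_iInf] at hv ⊢
  exact fun t => Module.End.mapsTo_maxGenEigenspace_of_comm (commute_avg u t).symm _ (hv t)

theorem triv_le_stabilizer (χ : Wt T K) : triv σ T χ ≤ MulAction.stabilizer H χ :=
  fun _ h => h.1

theorem triv_conj {χ : Wt T K} {g h : H} (hg : g • χ = χ) (hh : h ∈ triv σ T χ) :
    g * h * g⁻¹ ∈ triv σ T χ := by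
  have hg' : g⁻¹ • χ = χ := inv_smul_eq_iff.2 hg.symm
  refine ⟨by rw [mul_smul, mul_smul, hg', hh.1, hg], fun t v hv => ?_⟩
  have hv' : σ g⁻¹ v ∈ comp σ T χ := by
    have h0 := smul_mem_comp g⁻¹ χ v hv
    rwa [hg'] at h0
  have h1 := congrArg (σ g) (hh.2 (MulAut.conjNormal g⁻¹ t) _ hv')
  simp only [← Module.End.mul_apply, ← map_mul, MulAut.conjNormal_apply, inv_inv] at h1 ⊢
  convert h1 using 3 <;> group

/-- In characteristic two an odd-order operator inside one generalised eigenspace is scalar. -/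
theorem scalar_of_odd [CharP K 2] {A : Module.End K V} {m : ℕ} (hm : Odd m) (hA : A ^ m = 1)
    {c : K} {v : V} (hv : ∃ k, ((A - c • (1 : Module.End K V)) ^ k) v = 0) : A v = c • v := by
  obtain ⟨k, hk⟩ := hv
  rcases eq_or_ne v 0 with rfl | hv0
  · simp
  have hsq : ∀ l : ℕ, (A - c • 1) ^ 2 ^ l = A ^ 2 ^ l - (c ^ 2 ^ l) • 1 := by
    intro l
    induction l with
    | zero => simp
    | succ l ih =>
      rw [pow_succ, pow_mul, ih, pow_two, sub_mul, mul_sub, mul_sub, smul_mul_assoc, mul_smul_comm,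
        one_mul, mul_one, smul_mul_assoc, one_mul, smul_smul, ← pow_two, ← pow_mul, ← pow_two,
        ← pow_mul]
      have h2 : (c ^ 2 ^ l) • A ^ 2 ^ l + (c ^ 2 ^ l) • A ^ 2 ^ l = 0 := end_add_self _
      have h3 : (c ^ (2 ^ l * 2)) • (1 : Module.End K V) + (c ^ (2 ^ l * 2)) • (1 : Module.End K V)
          = 0 := end_add_self _
      calc _ = A ^ (2 ^ l * 2) - ((c ^ 2 ^ l) • A ^ 2 ^ l + (c ^ 2 ^ l) • A ^ 2 ^ l)
            + ((c ^ (2 ^ l * 2)) • (1 : Module.End K V) + (c ^ (2 ^ l * 2)) • 1)
            - (c ^ (2 ^ l * 2)) • (1 : Module.End K V) := by abel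
        _ = _ := by rw [h2, h3, sub_zero, add_zero]
  have hk2 : ((A - c • (1 : Module.End K V)) ^ 2 ^ k) v = 0 := by
    rw [show 2 ^ k = (2 ^ k - k) + k from (Nat.sub_add_cancel (Nat.lt_two_pow_self).le).symm,
      pow_add, Module.End.mul_apply, hk, map_zero]
  rw [hsq, LinearMap.sub_apply, LinearMap.smul_apply, Module.End.one_apply, sub_eq_zero] at hk2
  have hpow : ∀ a, (A ^ (2 ^ k * a)) v = (c ^ (2 ^ k * a)) • v := by
    intro a
    induction a with
    | zero => simp
    | succ a ih =>
      rw [show 2 ^ k * (a + 1) = 2 ^ k + 2 ^ k * a by ring, pow_add, Module.End.mul_apply, ih,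
        map_smul, hk2, smul_smul, pow_add, mul_comm]
  have hcop : Nat.Coprime (2 ^ k) m := (Nat.coprime_two_left.2 hm).pow_left k
  obtain ⟨a, ha⟩ : ∃ a : ℕ, A ^ (2 ^ k * a) = A := by
    rcases eq_or_ne m 1 with rfl | hm1
    · exact ⟨0, by rw [mul_zero, pow_zero, ← hA, pow_one]⟩
    obtain ⟨a, ha⟩ := Nat.exists_mul_mod_eq_one_of_coprime hcop (by have := hm.pos; omega)
    refine ⟨a, ?_⟩
    rw [pow_eq_pow_mod _ hA, ha.2, pow_one]
  have h1 : A v = (c ^ (2 ^ k * a)) • v := by rw [← hpow, ha]
  suffices c ^ (2 ^ k * a) = c by rw [h1, this]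
  have h4 : ∀ j : ℕ, ((A - c • (1 : Module.End K V)) ^ j) v = ((c ^ (2 ^ k * a) - c) ^ j) • v := by
    intro j
    induction j with
    | zero => simp
    | succ j ih =>
      rw [pow_succ', Module.End.mul_apply, ih, map_smul, LinearMap.sub_apply, h1,
        LinearMap.smul_apply, Module.End.one_apply, ← sub_smul, smul_smul, pow_succ]
  rw [h4] at hk
  exact sub_eq_zero.1 (pow_eq_zero_iff'.1 ((smul_eq_zero.1 hk).resolve_right hv0)).1

/-- An element acting centrally on a component is scalar there. -/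
theorem scalar_of_central [CharP K 2] (hodd : Odd (Nat.card T)) {χ : Wt T K} (t : T)
    (hc : ∀ s : T, ∀ v ∈ comp σ T χ, σ t (σ s v) = σ s (σ t v)) :
    ∀ v ∈ comp σ T χ, σ t v = χ t • v := by
  intro v hv
  letI := Fintype.ofFinite T
  have havg : ∀ v ∈ comp σ T χ, avg σ T t v = σ t v := by
    intro v hv
    unfold avg
    rw [LinearMap.sum_apply]
    have e : ∀ s : T, σ ((s * t * s⁻¹ : T) : H) v = σ t v := by
      intro s
      rw [Subgroup.coe_mul, Subgroup.coe_mul, map_mul, map_mul, Module.End.mul_apply,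
        Module.End.mul_apply, ← hc s _ (mem_comp_T s⁻¹ hv), ← Module.End.mul_apply (σ s),
        ← map_mul, Subgroup.coe_inv, mul_inv_cancel, map_one, Module.End.one_apply]
    rw [Finset.sum_congr rfl fun s _ => e s, Finset.sum_const, Finset.card_univ,
      ← Nat.card_eq_fintype_card, ← Nat.cast_smul_eq_nsmul K]
    obtain ⟨j, hj⟩ := hodd
    rw [hj, Nat.cast_add, Nat.cast_mul, Nat.cast_one, Nat.cast_ofNat, CharTwo.two_eq_zero, zero_mul,
      zero_add, one_smul]
  have hg := (Submodule.mem_iInf _).1 hv t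
  rw [Module.End.mem_maxGenEigenspace] at hg
  obtain ⟨k, hk⟩ := hg
  refine scalar_of_odd hodd (m := Nat.card T) ?_ ⟨k, ?_⟩
  · rw [← map_pow, ← Subgroup.coe_pow, pow_card_eq_one', Subgroup.coe_one, map_one]
  · rw [← hk]
    suffices ∀ (j : ℕ), ∀ v ∈ comp σ T χ, ((σ t - χ t • 1) ^ j) v = ((avg σ T t - χ t • 1) ^ j) v ∧
        ((σ t - χ t • 1) ^ j) v ∈ comp σ T χ from (this k v hv).1
    intro j
    induction j with
    | zero => exact fun v hv => ⟨rfl, by simpa using hv⟩
    | succ j ih =>
      intro v hv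
      obtain ⟨i1, i2⟩ := ih v hv
      have e2 : (σ t - χ t • 1) (((σ t - χ t • 1) ^ j) v) =
          σ t (((σ t - χ t • 1) ^ j) v) - χ t • ((σ t - χ t • 1) ^ j) v := rfl
      rw [pow_succ', pow_succ', Module.End.mul_apply, Module.End.mul_apply, e2]
      refine ⟨?_, sub_mem (mem_comp_T t i2) (Submodule.smul_mem _ _ i2)⟩
      rw [← i1, ← havg _ i2]
      rfl

variable (σ) in
/-- the sum over a subgroup -/
noncomputable def nsum (E : Subgroup H) : Module.End K V :=
  letI := Fintype.ofFinite E
  ∑ e : E, σ e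

omit [T.Normal] in
theorem nsum_bot : nsum σ (⊥ : Subgroup H) = 1 := by
  unfold nsum
  letI := Fintype.ofFinite (⊥ : Subgroup H)
  rw [Fintype.sum_unique]
  exact map_one σ

omit [T.Normal] in
theorem exists_extend [CharP K 2] (E : Subgroup H) {r : H} (hr : r * r = 1)
    (hcomm : ∀ e ∈ E, e * r = r * e) (hrE : r ∉ E) :
    ∃ E' : Subgroup H, (∀ x, x ∈ E' ↔ x ∈ E ∨ x * r ∈ E) ∧ nsum σ E' = nsum σ E * (σ r - 1) := by
  have hri : r⁻¹ = r := inv_eq_of_mul_eq_one_right hr
  let E' : Subgroup H :=
    { carrier := {x | x ∈ E ∨ x * r ∈ E}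
      one_mem' := Or.inl E.one_mem
      mul_mem' := fun {a b} ha hb => by
        rcases ha with ha | ha <;> rcases hb with hb | hb
        · exact Or.inl (mul_mem ha hb)
        · exact Or.inr (by rw [mul_assoc]; exact mul_mem ha hb)
        · refine Or.inr ?_
          rw [mul_assoc, hcomm b hb, ← mul_assoc]
          exact mul_mem ha hb
        · refine Or.inl ?_
          have h1 : a * b = (a * r) * (b * r) := by
            have h2 := hcomm _ hb
            rw [mul_assoc a r, ← h2, mul_assoc b r r, hr, mul_one]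
          rw [h1]; exact mul_mem ha hb
      inv_mem' := fun {a} ha => by
        rcases ha with ha | ha
        · exact Or.inl (inv_mem ha)
        · refine Or.inr ?_
          have h2 := hcomm _ (inv_mem ha)
          rw [mul_inv_rev, hri, ← mul_assoc r r, hr, one_mul] at h2
          have h3 : a⁻¹ * r = (a * r)⁻¹ := by
            rw [mul_inv_rev, hri]
            conv_lhs => rw [← h2, mul_assoc, hr, mul_one]
          rw [h3]; exact inv_mem ha }
  refine ⟨E', fun x => Iff.rfl, ?_⟩
  unfold nsum
  letI := Fintype.ofFinite E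
  letI := Fintype.ofFinite E'
  let g : E ⊕ E → E' := Sum.elim (fun x => ⟨x, Or.inl x.2⟩)
    (fun x => ⟨(x : H) * r, Or.inr (by rw [mul_assoc, hr, mul_one]; exact x.2)⟩)
  have hg : Function.Bijective g := by
    constructor
    · rintro (a | a) (b | b) hab <;>
        simp only [g, Sum.elim_inl, Sum.elim_inr, Subtype.mk.injEq] at hab
      · exact congrArg Sum.inl (Subtype.ext hab)
      · exact absurd (by rw [show r = (b : H)⁻¹ * a by rw [hab]; group]
                         exact mul_mem (inv_mem b.2) a.2) hrE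
      · exact absurd (by rw [show r = (a : H)⁻¹ * b by rw [← hab]; group]
                         exact mul_mem (inv_mem a.2) b.2) hrE
      · exact congrArg Sum.inr (Subtype.ext (mul_right_cancel hab))
    · rintro ⟨e, he | he⟩
      · exact ⟨Sum.inl ⟨e, he⟩, rfl⟩
      · exact ⟨Sum.inr ⟨e * r, he⟩, Subtype.ext (by change e * r * r = e; rw [mul_assoc, hr, mul_one])⟩
  rw [← (Equiv.ofBijective g hg).sum_comp, Fintype.sum_sum_type, mul_sub, mul_one, Finset.sum_mul]
  have e1 : ∀ x : E, σ ((Equiv.ofBijective g hg (Sum.inl x) : E') : H) = σ x := fun x => rfl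
  have e2 : ∀ x : E, σ ((Equiv.ofBijective g hg (Sum.inr x) : E') : H) = σ x * σ r :=
    fun x => map_mul σ _ _
  rw [Finset.sum_congr rfl fun x _ => e1 x, Finset.sum_congr rfl fun x _ => e2 x,
    eq_sub_iff_add_eq, add_comm (∑ x : E, σ (x : H)) _, add_assoc, end_add_self, add_zero]

/-- The norm of a faithful elementary abelian subgroup does not kill the component. -/
theorem nsum_ne_zero [CharP K 2] (hodd : Odd (Nat.card T))
    (hT2 : ∀ a b : T, a * b * a⁻¹ * b⁻¹ ∈ Subgroup.center T) {χ : Wt T K}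
    (hne : comp σ T χ ≠ ⊥) (E : Subgroup H) (hE : ∀ e ∈ E, e • χ = χ) (hE2 : ∀ e ∈ E, e * e = 1)
    (htriv : E ⊓ triv σ T χ = ⊥) : ∃ v ∈ comp σ T χ, nsum σ E v ≠ 0 := by
  classical
  let τ : T →* Module.End K (comp σ T χ) :=
    { toFun := fun t => (σ t).restrict fun v hv => mem_comp_T t hv
      map_one' := LinearMap.ext fun v => Subtype.ext (by simp)
      map_mul' := fun a b => LinearMap.ext fun v => Subtype.ext (by simp) }
  have hmem : ∀ e : E, ∀ v ∈ comp σ T χ, σ (e : H) v ∈ comp σ T χ := fun e v hv => by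
    have := smul_mem_comp (e : H) χ v hv
    rwa [hE e e.2] at this
  let η : E →* Module.End K (comp σ T χ) :=
    { toFun := fun e => (σ e).restrict (hmem e)
      map_one' := LinearMap.ext fun v => Subtype.ext (by simp)
      map_mul' := fun a b => LinearMap.ext fun v => Subtype.ext (by simp) }
  let φ : E → T → T := fun e t => MulAut.conjNormal (e : H) t
  have hset : Setting τ η φ :=
    { compat := fun e t => LinearMap.ext fun v => Subtype.ext (by
        change σ (e : H) (σ t v) = σ (MulAut.conjNormal (e : H) t : T) (σ (e : H) v)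
        rw [← Module.End.mul_apply, ← Module.End.mul_apply, ← map_mul, ← map_mul,
          MulAut.conjNormal_apply, inv_mul_cancel_right])
      invol := fun e => Subtype.ext (hE2 e e.2)
      scal := fun s t => by
        set z := s * t * s⁻¹ * t⁻¹ with hz
        have hzc := hT2 s t
        have hscal := scalar_of_central (σ := σ) hodd (χ := χ) z fun u v _ => by
          rw [← Module.End.mul_apply, ← Module.End.mul_apply, ← map_mul, ← map_mul, ← Subgroup.coe_mul,
            ← Subgroup.coe_mul, (Subgroup.mem_center_iff.1 hzc u)]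
        refine ⟨χ z, LinearMap.ext fun v => Subtype.ext ?_⟩
        change σ s (σ t v) = χ z • σ t (σ s v)
        rw [← hscal _ (mem_comp_T t (mem_comp_T s v.2)), ← Module.End.mul_apply,
          ← Module.End.mul_apply, ← Module.End.mul_apply, ← map_mul, ← map_mul, ← map_mul, hz]
        congr 2
        simp only [Subgroup.coe_mul, Subgroup.coe_inv]
        group
      nondeg := fun t ht => ⟨χ t, LinearMap.ext fun v => Subtype.ext (by
        change σ t v = χ t • (v : V)
        refine scalar_of_central (σ := σ) (χ := χ) hodd t (fun s w hw => ?_) v v.2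
        exact congrArg Subtype.val (LinearMap.congr_fun (ht s).eq ⟨w, hw⟩))⟩
      odd := hodd
      faithful := fun e he => by
        have h1 : (e : H) ∈ E ⊓ triv σ T χ := ⟨e.2, hE e e.2, fun t v hv =>
          congrArg Subtype.val (LinearMap.congr_fun (he t).eq ⟨v, hv⟩)⟩
        rw [htriv, Subgroup.mem_bot] at h1
        exact Subtype.ext h1 }
  have hone : (1 : Module.End K (comp σ T χ)) ≠ 0 := by
    intro h
    apply hne
    rw [Submodule.eq_bot_iff]
    intro v hv
    exact congrArg Subtype.val (LinearMap.congr_fun h ⟨v, hv⟩)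
  have key := hset.nrm_mul_ne_zero ⊤ 1 (fun e _ => Commute.one_left _)
    (fun e _ s => Commute.one_left _) hone
  rw [mul_one] at key
  by_contra hall
  push Not at hall
  refine key (LinearMap.ext fun v => Subtype.ext ?_)
  rw [LinearMap.zero_apply, Submodule.coe_zero, ← hall v v.2]
  unfold nrm nsum
  letI := Fintype.ofFinite E
  letI := Fintype.ofFinite (⊤ : Subgroup E)
  rw [LinearMap.sum_apply, LinearMap.sum_apply, Submodule.coe_sum]
  exact Fintype.sum_equiv Subgroup.topEquiv.toEquiv _ _ fun e => rfl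

end Cfsg.Agent.Bryukh6
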