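import Cfsg.Agent.Bryukh6.Struct
import Cfsg.Agent.Bryukh6.Comp

/-!
# The last derived subgroup of a Sylow 2-subgroup modulo `O_{2'}`
-/

set_option autoImplicit false

namespace Cfsg.Agent.Bryukh6

open Cfsg.Agent.FGS73 (derivedIn derivedIn_le map_derivedIn derivedIn_conj)
open scoped commutatorElement

variable {H : Type*} [Group H] [Finite H] {K : Type*} [Field K] [CharP K 2] {V : Type*}
  [AddCommGroup V] [Module K V]

/-- The group elements fixing every non-zero component. -/
noncomputable def kerComp (σ : H →* Module.End K V) (T : Subgroup H) [T.Normal] : Subgroup H :=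
  ⨅ χ : {χ : Wt T K // comp σ T χ ≠ ⊥}, MulAction.stabilizer H χ.1

variable {σ : H →* Module.End K V} {T : Subgroup H} [T.Normal]

omit [CharP K 2] in
theorem mem_kerComp {h : H} :
    h ∈ kerComp σ T ↔ ∀ χ : Wt T K, comp σ T χ ≠ ⊥ → h • χ = χ := by
  simp [kerComp, Subgroup.mem_iInf, MulAction.mem_stabilizer_iff]

omit [CharP K 2] in
theorem kerComp_normal : (kerComp σ T).Normal where
  conj_mem h hh g := by
    rw [mem_kerComp] at hh ⊢
    intro χ hχ
    have hne : comp σ T (g⁻¹ • χ) ≠ ⊥ := by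
      intro h0
      apply hχ
      rw [Submodule.eq_bot_iff]
      intro v hv
      have h1 := smul_mem_comp g⁻¹ χ v hv
      rw [h0, Submodule.mem_bot] at h1
      have h2 := congrArg (σ g) h1
      rwa [← Module.End.mul_apply, ← map_mul, mul_inv_cancel, map_one, Module.End.one_apply,
        map_zero] at h2
    rw [mul_smul, mul_smul, hh _ hne, smul_inv_smul]

variable [IsAlgClosed K] [FiniteDimensional K V]

theorem core {k : ℕ} (hσ : Function.Injective σ) (hsol : Group.IsSolvable H)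
    (hO : Cfsg.pCore 2 H = ⊥) (S : Sylow 2 H) (hk : Kills σ (S : Subgroup H) (k + 2)) :
    ∃ L : Subgroup (H ⧸ Cfsg.pPrimeCore 2 H), L.Normal ∧ L ≤ Cfsg.pCore 2 _ ∧
      (derivedIn (S : Subgroup H) (k + 1)).map (QuotientGroup.mk' _) ≤ L ∧
      chainIn ((S : Subgroup H).map (QuotientGroup.mk' _)) L (k + 1) = ⊥ := by
  classical
  haveI : Fact (Nat.Prime 2) := ⟨Nat.prime_two⟩
  haveI := hsol
  set Sg := (S : Subgroup H) with hSg
  have hS2 : IsPGroup 2 Sg := S.2
  -- the odd-order group of class two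
  have hFodd : Odd (Nat.card (Cfsg.fittingSubgroup H)) := by
    rw [← Nat.coprime_two_right]
    refine (Nat.prime_two.coprime_iff_not_dvd.2 fun hd => ?_).symm
    haveI : Group.IsNilpotent (Cfsg.fittingSubgroup H) := Cfsg.Agent.Fitting.fitting_isNilpotent
    obtain ⟨P⟩ : Nonempty (Sylow 2 (Cfsg.fittingSubgroup H)) := inferInstance
    haveI : (P : Subgroup (Cfsg.fittingSubgroup H)).Normal := inferInstance
    haveI : (P : Subgroup (Cfsg.fittingSubgroup H)).Characteristic :=
      P.characteristic_of_normal inferInstance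
    have h1 := Cfsg.Agent.Thompson.le_pCore
      (Cfsg.Agent.Fitting.normal_map_subtype_of_characteristic
        (P : Subgroup (Cfsg.fittingSubgroup H))) (P.2.map _)
    rw [hO, le_bot_iff, Subgroup.map_eq_bot_iff_of_injective _ Subtype.val_injective] at h1
    have h2 := P.dvd_card_of_dvd_card hd
    rw [h1, Subgroup.card_bot] at h2
    omega
  obtain ⟨T, hTn, hTF, hT2, hTC⟩ := exists_class_two H
  haveI := hTn
  have hTodd : Odd (Nat.card T) :=
    hFodd.of_dvd_nat (Subgroup.card_dvd_of_le hTF)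
  have hT2' : ∀ a b : T, a * b * a⁻¹ * b⁻¹ ∈ Subgroup.center T := fun a b =>
    Subgroup.mem_center_iff.2 fun c => Subtype.ext (hT2 a a.2 b b.2 c c.2)
  -- an element of `S` acting trivially on all components is trivial
  have hS1 : ∀ s ∈ Sg, (∀ χ : Wt T K, comp σ T χ ≠ ⊥ → s ∈ triv σ T χ) → s = 1 := by
    intro s hs hall
    obtain ⟨m, hm⟩ := hS2 ⟨s, hs⟩
    refine eq_one_of_centralizes hTF hTC hFodd (m := m) (congrArg Subtype.val hm) fun t ht => ?_
    apply hσ
    rw [map_mul, map_mul]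
    apply LinearMap.ext
    intro v
    have hv : v ∈ ⨆ χ, comp σ T χ := by rw [comp_iSup]; exact Submodule.mem_top
    refine Submodule.iSup_induction (comp σ T) (motive := fun v =>
      (σ s * σ t) v = (σ t * σ s) v) hv ?_ (by simp) (fun x y hx hy => by
        simp only [map_add, hx, hy])
    intro χ w hw
    rcases eq_or_ne (comp σ T χ) ⊥ with h0 | h0
    · rw [h0, Submodule.mem_bot] at hw
      simp [hw]
    · exact (hall χ h0).2 ⟨t, ht⟩ w hw
  -- the last derived subgroup
  set A := derivedIn Sg (k + 1) with hA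
  have hAS : A ≤ Sg := derivedIn_le _ _
  have hA2 : ∀ a ∈ A, a * a = 1 := by
    intro a ha
    apply hσ
    have h1 := hk.mul_delta_delta (n := 0) (by omega) (O := 1) rfl (y := a) (y' := a)
      (by rwa [show k + 2 - (0 + 1) = k + 1 by omega]) (by rwa [show k + 2 - (0 + 1) = k + 1 by omega])
    rw [one_mul] at h1
    rw [map_mul, map_one, ← sub_eq_zero]
    calc σ a * σ a - 1 = (σ a - 1) * (σ a - 1) + (σ a + σ a) - (1 + 1) := by noncomm_ring
      _ = 0 := by rw [h1, zero_add, end_add_self, end_add_self, sub_zero]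
  have hAfix : ∀ a ∈ A, a ∈ kerComp σ T := by
    intro a ha
    rw [mem_kerComp]
    intro χ hχ
    obtain ⟨w, hw, hw0⟩ := Submodule.exists_mem_ne_zero_of_ne_bot hχ
    refine hk.fix_pred hS2 (M := comp σ T) (fun h ω v hv => smul_mem_comp h ω v hv) comp_indep
      (n := 0) (by omega) (O₀ := 1) rfl hw (by simpa using hw0) ?_
      (by rwa [show k + 2 - (0 + 1) = k + 1 by omega])
    intro g hg
    rw [hk.eq_one hσ (y := g) (by simpa using hg), one_smul]
  -- `A` centralises the elements of `S` fixing all components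
  have hAc : ∀ g ∈ Sg, g ∈ kerComp σ T → ∀ a ∈ A, g * a = a * g := by
    intro g hg hgk a ha
    set a' := g * a * g⁻¹ with ha'
    have ha'A : a' ∈ A := derivedIn_conj _ _ hg ha
    have hc1 : a' * a = 1 := by
      refine hS1 _ (mul_mem (hAS ha'A) (hAS ha)) fun χ hχ => ?_
      by_contra hc
      have hgχ : g • χ = χ := (mem_kerComp.1 hgk) χ hχ
      have han : a ∉ triv σ T χ := fun h => hc (mul_mem (triv_conj hgχ h) h)
      have ha'n : a' ∉ triv σ T χ := fun h => han (by
        have h1 := triv_conj (g := g⁻¹) (inv_smul_eq_iff.2 hgχ.symm) h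
        rwa [ha', show g⁻¹ * (g * a * g⁻¹) * g⁻¹⁻¹ = a by group] at h1)
      have hcomm : ∀ x ∈ A, ∀ y ∈ A, x * y = y * x := fun x hx y hy => by
        have h1 : x⁻¹ = x := inv_eq_of_mul_eq_one_right (hA2 x hx)
        have h2 : y⁻¹ = y := inv_eq_of_mul_eq_one_right (hA2 y hy)
        calc x * y = (x * y)⁻¹ := (inv_eq_of_mul_eq_one_right (hA2 _ (mul_mem hx hy))).symm
          _ = y * x := by rw [mul_inv_rev, h1, h2]
      obtain ⟨E₁, hE₁, hN₁⟩ := exists_extend (σ := σ) (⊥ : Subgroup H) (hA2 a ha)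
        (fun e he => by rw [Subgroup.mem_bot.1 he, one_mul, mul_one])
        (by rw [Subgroup.mem_bot]; exact fun h => han (h ▸ one_mem _))
      have hE₁' : ∀ x ∈ E₁, x = 1 ∨ x = a := fun x hx => by
        rcases (hE₁ x).1 hx with h | h
        · exact Or.inl (Subgroup.mem_bot.1 h)
        · exact Or.inr (by rw [← inv_eq_of_mul_eq_one_left (Subgroup.mem_bot.1 h),
            inv_eq_of_mul_eq_one_right (hA2 a ha)])
      obtain ⟨E₂, hE₂, hN₂⟩ := exists_extend (σ := σ) E₁ (hA2 a' ha'A)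
        (fun e he => by
          rcases hE₁' e he with rfl | rfl
          · simp
          · exact hcomm _ ha _ ha'A)
        (fun h => by
          rcases hE₁' _ h with h | h
          · exact ha'n (h ▸ one_mem _)
          · exact hc (by rw [h, hA2 a ha]; exact one_mem _))
      have hzero : nsum σ E₂ = 0 := by
        rw [hN₂, hN₁, nsum_bot]
        exact hk.mul_delta_delta (n := 0) (by omega) rfl
          (by rwa [show k + 2 - (0 + 1) = k + 1 by omega])
          (by rwa [show k + 2 - (0 + 1) = k + 1 by omega])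
      have hmem : ∀ x ∈ E₂, x = 1 ∨ x = a ∨ x = a' ∨ x = a' * a := by
        intro x hx
        rcases (hE₂ x).1 hx with h | h
        · rcases hE₁' x h with h | h
          · exact Or.inl h
          · exact Or.inr (Or.inl h)
        · have hx' : x = x * a' * a' := by rw [mul_assoc, hA2 a' ha'A, mul_one]
          rcases hE₁' _ h with h' | h'
          · exact Or.inr (Or.inr (Or.inl (by rw [hx', h', one_mul])))
          · exact Or.inr (Or.inr (Or.inr (by rw [hx', h', hcomm a ha a' ha'A])))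
      obtain ⟨v, -, hv⟩ := nsum_ne_zero hTodd hT2' hχ E₂
        (fun e he => by
          rcases hmem e he with rfl | rfl | rfl | rfl
          · exact one_smul _ _
          · exact mem_kerComp.1 (hAfix _ ha) χ hχ
          · exact mem_kerComp.1 (hAfix _ ha'A) χ hχ
          · exact mem_kerComp.1 (hAfix _ (mul_mem ha'A ha)) χ hχ)
        (fun e he => by
          rcases hmem e he with rfl | rfl | rfl | rfl
          · exact one_mul 1
          · exact hA2 _ ha
          · exact hA2 _ ha'A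
          · exact hA2 _ (mul_mem ha'A ha))
        (by
          rw [eq_bot_iff]
          rintro x ⟨hx1, hx2⟩
          rcases hmem x hx1 with rfl | rfl | rfl | rfl
          · exact one_mem _
          · exact absurd hx2 han
          · exact absurd hx2 ha'n
          · exact absurd hx2 hc)
      exact hv (by rw [hzero, LinearMap.zero_apply])
    have h2 : a' = a := by
      rw [eq_inv_of_mul_eq_one_left hc1, inv_eq_of_mul_eq_one_right (hA2 a ha)]
    rw [ha'] at h2
    exact mul_inv_eq_iff_eq_mul.1 h2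
  -- images modulo the odd core
  set π := QuotientGroup.mk' (Cfsg.pPrimeCore 2 H) with hπdef
  have hπ : Function.Surjective π := QuotientGroup.mk'_surjective _
  have hQc : (Nat.card (Cfsg.pPrimeCore 2 H)).Coprime 2 := Cfsg.Agent.Thompson.card_pPrimeCore_coprime
  have hinj : ∀ s ∈ Sg, π s = 1 → s = 1 := by
    intro s hs h1
    have : s ∈ Sg ⊓ Cfsg.pPrimeCore 2 H := ⟨hs, (QuotientGroup.eq_one_iff s).1 h1⟩
    rwa [Cfsg.Agent.Thompson.inf_eq_bot_of_isPGroup_of_coprime hS2 hQc, Subgroup.mem_bot] at this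
  haveI hNn : (kerComp σ T).Normal := kerComp_normal
  have hsk : ∀ s ∈ Sg, π s ∈ (kerComp σ T).map π → s ∈ kerComp σ T := by
    rintro s hs ⟨n, hn, hns⟩
    have hq : n⁻¹ * s ∈ Cfsg.pPrimeCore 2 H := by
      rw [← QuotientGroup.eq_one_iff (N := Cfsg.pPrimeCore 2 H)]
      change π (n⁻¹ * s) = 1
      rw [map_mul, map_inv, hns, inv_mul_cancel]
    have e : ((s : H) : H ⧸ kerComp σ T) = ((n⁻¹ * s : H) : H ⧸ kerComp σ T) := by
      rw [QuotientGroup.mk_mul, (QuotientGroup.eq_one_iff _).2 (inv_mem hn), one_mul]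
    obtain ⟨m, hm⟩ := hS2 ⟨s, hs⟩
    have o1 : orderOf ((s : H) : H ⧸ kerComp σ T) ∣ 2 ^ m :=
      orderOf_dvd_of_pow_eq_one (by
        rw [← QuotientGroup.mk_pow, show s ^ 2 ^ m = 1 from congrArg Subtype.val hm,
          QuotientGroup.mk_one])
    have o2 : orderOf ((s : H) : H ⧸ kerComp σ T) ∣ Nat.card (Cfsg.pPrimeCore 2 H) := by
      rw [e]
      exact (orderOf_map_dvd (QuotientGroup.mk' (kerComp σ T)) _).trans
        ((Subgroup.orderOf_coe (⟨_, hq⟩ : Cfsg.pPrimeCore 2 H)).symm ▸ orderOf_dvd_natCard _)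
    have o3 := Nat.dvd_gcd o1 o2
    rw [(hQc.symm.pow_left m).gcd_eq_one, Nat.dvd_one, orderOf_eq_one_iff,
      QuotientGroup.eq_one_iff] at o3
    exact o3
  set Nb := (kerComp σ T).map π with hNb
  haveI : Nb.Normal := hNn.map _ hπ
  set D := (Cfsg.pCore 2 Nb).map Nb.subtype with hD
  haveI hDn : D.Normal := Cfsg.Agent.Thompson.map_subtype_normal_of_characteristic Nb _
  have hD2 : IsPGroup 2 D := Cfsg.Agent.Thompson.isPGroup_pCore.map _
  have hDR : D ≤ Cfsg.pCore 2 _ := Cfsg.Agent.Thompson.map_pCore_normal_le Nb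
  let Sb := S.mapSurjective hπ
  have hDS : D ≤ Sg.map π := hDR.trans (Cfsg.Agent.Thompson.pCore_le_sylow Sb)
  have hDN : D ≤ Nb := Subgroup.map_subtype_le _
  have hAD : ∀ a ∈ A, ∀ y ∈ D, π a * y = y * π a := by
    intro a ha y hy
    obtain ⟨s, hs, rfl⟩ := hDS hy
    rw [← map_mul, ← map_mul, hAc s hs (hsk s hs (hDN hy)) a ha]
  have hAinD : ∀ a ∈ A, π a ∈ D := by
    intro a ha
    have haN : π a ∈ Nb := Subgroup.mem_map_of_mem π (hAfix a ha)
    refine ⟨⟨π a, haN⟩, ?_, rfl⟩
    have hbot : Cfsg.pPrimeCore 2 Nb = ⊥ := by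
      rw [← Subgroup.map_eq_bot_iff_of_injective _ Nb.subtype_injective, ← le_bot_iff,
        ← Cfsg.Agent.Thompson.pPrimeCore_quotient_pPrimeCore (p := 2) (G := H)]
      exact Cfsg.Agent.Thompson.map_pPrimeCore_normal_le Nb
    haveI : Group.IsSolvable (H ⧸ Cfsg.pPrimeCore 2 H) := Group.isSolvable_of_surjective hπ
    refine Cfsg.Agent.Thompson.centralizer_pCore_le (OddLocal44.isPSolvable_of_isSolvable) hbot
      (Subgroup.mem_centralizer_iff.2 fun z hz => Subtype.ext ?_)
    exact (hAD a ha z ⟨z, hz, rfl⟩).symm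
  -- the elementary abelian group
  let L : Subgroup (H ⧸ Cfsg.pPrimeCore 2 H) :=
    { carrier := {y | y ∈ D ∧ y * y = 1 ∧ ∀ z ∈ D, y * z = z * y}
      one_mem' := ⟨one_mem _, one_mul 1, fun z _ => by rw [one_mul, mul_one]⟩
      mul_mem' := fun {x y} hx hy => ⟨mul_mem hx.1 hy.1, by
          rw [mul_assoc, ← mul_assoc y, ← hx.2.2 y hy.1, mul_assoc x y y, hy.2.1, mul_one, hx.2.1],
        fun z hz => by rw [mul_assoc, hy.2.2 z hz, ← mul_assoc, hx.2.2 z hz, mul_assoc]⟩
      inv_mem' := fun {x} hx => by rw [inv_eq_of_mul_eq_one_right hx.2.1]; exact hx }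
  have hLn : L.Normal := ⟨fun x hx g => ⟨hDn.conj_mem x hx.1 g, by
      rw [show g * x * g⁻¹ * (g * x * g⁻¹) = g * (x * x) * g⁻¹ by group, hx.2.1, mul_one,
        mul_inv_cancel], fun z hz => by
      have h1 := hx.2.2 (g⁻¹ * z * g) (by simpa using hDn.conj_mem z hz g⁻¹)
      calc g * x * g⁻¹ * z = g * (x * (g⁻¹ * z * g)) * g⁻¹ := by group
        _ = z * (g * x * g⁻¹) := by rw [h1]; group⟩⟩
  refine ⟨L, hLn, fun y hy => hDR hy.1, ?_, ?_⟩
  · rintro _ ⟨a, ha, rfl⟩
    exact ⟨hAinD a ha, by rw [← map_mul, hA2 a ha, map_one], hAD a ha⟩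
  -- its preimage in `S`
  set LS := Sg ⊓ L.comap π with hLS
  have hLmap : LS.map π = L := by
    refine le_antisymm (Subgroup.map_le_iff_le_comap.2 inf_le_right) fun y hy => ?_
    obtain ⟨s, hs, rfl⟩ := hDS hy.1
    exact ⟨s, ⟨hs, hy⟩, rfl⟩
  have hLSfix : ∀ x ∈ LS, x ∈ kerComp σ T := fun x hx => hsk x hx.1 (hDN hx.2.1)
  have hLS2 : ∀ x ∈ LS, x * x = 1 := fun x hx =>
    hinj _ (mul_mem hx.1 hx.1) (by rw [map_mul]; exact hx.2.2.1)
  have hLScomm : ∀ x ∈ LS, ∀ y ∈ LS, x * y = y * x := fun x hx y hy => by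
    have h1 : x⁻¹ = x := inv_eq_of_mul_eq_one_right (hLS2 x hx)
    have h2 : y⁻¹ = y := inv_eq_of_mul_eq_one_right (hLS2 y hy)
    calc x * y = (x * y)⁻¹ := (inv_eq_of_mul_eq_one_right (hLS2 _ (mul_mem hx hy))).symm
      _ = y * x := by rw [mul_inv_rev, h1, h2]
  have hLSn : ∀ s ∈ Sg, ∀ x ∈ LS, s * x * s⁻¹ ∈ LS := fun s hs x hx =>
    ⟨Sg.mul_mem (Sg.mul_mem hs hx.1) (Sg.inv_mem hs), by
      show π (s * x * s⁻¹) ∈ L
      rw [map_mul, map_mul, map_inv]; exact hLn.conj_mem _ hx.2 _⟩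
  rw [← hLmap, ← map_chainIn, Subgroup.map_eq_bot_iff]
  intro r₀ hr₀
  suffices r₀ = 1 by rw [this]; exact one_mem _
  have hUS : ∀ i, chainIn Sg LS i ≤ derivedIn Sg i := chainIn_le_derived inf_le_left
  have hUL : ∀ i, chainIn Sg LS i ≤ LS := fun i => chainIn_anti hLSn (Nat.zero_le i)
  refine hS1 r₀ (hUL _ hr₀).1 fun χ hχ => ?_
  by_contra hr
  -- descend through the derived series
  have claim : ∀ j, j ≤ k + 1 → ∃ E : Subgroup H, E ≤ chainIn Sg LS (k + 1 - j) ∧
      E ⊓ triv σ T χ = ⊥ ∧ (∃ e ∈ E, e ≠ 1) ∧ nsum σ E ∈ opSet σ Sg (k + 2) (j + 1) ∧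
      ∀ g ∈ derivedIn Sg (k + 1 - j), g • χ = χ := by
    intro j
    induction j with
    | zero =>
      intro _
      have hr1 : r₀ ≠ 1 := fun h => hr (h ▸ one_mem _)
      obtain ⟨E, hE, hN⟩ := exists_extend (σ := σ) (⊥ : Subgroup H) (hLS2 _ (hUL _ hr₀))
        (fun e he => by rw [Subgroup.mem_bot.1 he, one_mul, mul_one])
        (by rwa [Subgroup.mem_bot])
      have hE' : ∀ x ∈ E, x = 1 ∨ x = r₀ := fun x hx => by
        rcases (hE x).1 hx with h | h
        · exact Or.inl (Subgroup.mem_bot.1 h)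
        · exact Or.inr (by rw [← inv_eq_of_mul_eq_one_left (Subgroup.mem_bot.1 h),
            inv_eq_of_mul_eq_one_right (hLS2 _ (hUL _ hr₀))])
      refine ⟨E, fun x hx => ?_, ?_, ⟨r₀, (hE _).2 (Or.inr ?_), hr1⟩, ?_, ?_⟩
      · rcases hE' x hx with rfl | rfl
        · exact one_mem _
        · exact hr₀
      · rw [eq_bot_iff]
        rintro x ⟨hx1, hx2⟩
        rcases hE' x hx1 with rfl | rfl
        · exact one_mem _
        · exact absurd hx2 hr
      · rw [hLS2 _ (hUL _ hr₀)]; exact one_mem _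
      · rw [hN, nsum_bot]
        exact ⟨1, rfl, r₀, by
          rw [show k + 2 - (0 + 1) = k + 1 by omega]; exact hUS _ hr₀, rfl⟩
      · intro g hg
        exact mem_kerComp.1 (hAfix g hg) χ hχ
    | succ j ih =>
      intro hj
      obtain ⟨E, hEU, hEtriv, hEne, hEop, hEfix⟩ := ih (by omega)
      set i := k + 1 - (j + 1) with hi
      have hii : k + 1 - j = i + 1 := by omega
      rw [hii] at hEU hEfix
      obtain ⟨w, hw, hw0⟩ := nsum_ne_zero hTodd hT2' hχ E
        (fun e he => mem_kerComp.1 (hLSfix e (hUL _ (hEU he))) χ hχ)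
        (fun e he => hLS2 e (hUL _ (hEU he))) hEtriv
      have hPfix : ∀ g ∈ derivedIn Sg i, g • χ = χ := by
        intro g hg
        refine hk.fix_pred hS2 (M := comp σ T) (fun h ω v hv => smul_mem_comp h ω v hv) comp_indep
          (n := j + 1) (by omega) hEop hw hw0 ?_
          (by rwa [show k + 2 - (j + 1 + 1) = i by omega])
        rw [show k + 2 - (j + 1) = i + 1 by omega]
        exact hEfix
      -- a new element
      obtain ⟨r, hrU, hrn⟩ : ∃ r ∈ chainIn Sg LS i,
          ∀ u ∈ chainIn Sg LS (i + 1), u * r ∉ triv σ T χ := by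
        by_contra hall
        push Not at hall
        let Γ := MulAction.stabilizer H χ
        let Z := (triv σ T χ).subgroupOf Γ
        haveI : Z.Normal := ⟨fun x hx g => triv_conj (g := (g : H)) g.2 hx⟩
        let P := (derivedIn Sg i).subgroupOf Γ
        let ψ := QuotientGroup.mk' Z
        let U := (chainIn Sg LS i).subgroupOf Γ
        have hPle : derivedIn Sg i ≤ Γ := fun g hg => hPfix g hg
        have hUle : chainIn Sg LS i ≤ Γ := (hUS i).trans hPle
        have hP2 : IsPGroup 2 (P.map ψ) :=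
          IsPGroup.map ((hS2.to_le (derivedIn_le Sg i)).comap_of_injective Γ.subtype
            Γ.subtype_injective) ψ
        have hnext : chainIn Sg LS (i + 1) = (⁅U, P⁆ : Subgroup Γ).map Γ.subtype := by
          rw [Subgroup.map_commutator, Subgroup.map_subgroupOf_eq_of_le hUle,
            Subgroup.map_subgroupOf_eq_of_le hPle]
          rfl
        have hsub : U.map ψ ≤ ⁅U.map ψ, P.map ψ⁆ := by
          rw [← Subgroup.map_commutator]
          rintro _ ⟨x, hx, rfl⟩
          obtain ⟨u, hu, hux⟩ := hall x hx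
          rw [hnext] at hu
          obtain ⟨u', hu', rfl⟩ := hu
          refine ⟨u'⁻¹, inv_mem hu', ?_⟩
          change ((u'⁻¹ : Γ) : Γ ⧸ Z) = (x : Γ ⧸ Z)
          rw [QuotientGroup.eq, inv_inv]
          exact hux
        have h0 := Cfsg.Agent.Coprime.eq_bot_of_le_commutator (P.map ψ) hP2.isNilpotent
          (Subgroup.map_mono (fun x hx => hUS i hx)) hsub
        obtain ⟨e, he, he1⟩ := hEne
        refine he1 ?_
        rw [← Subgroup.mem_bot, ← hEtriv]
        refine ⟨he, ?_⟩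
        have h1 : ψ ⟨e, hUle (chainIn_succ_le hLSn i (hEU he))⟩ ∈ U.map ψ :=
          Subgroup.mem_map_of_mem ψ (chainIn_succ_le hLSn i (hEU he))
        rw [h0, Subgroup.mem_bot] at h1
        exact (QuotientGroup.eq_one_iff (N := Z) ⟨e, hUle (chainIn_succ_le hLSn i (hEU he))⟩).1 h1
      have hrLS := hUL _ hrU
      obtain ⟨E', hE', hN'⟩ := exists_extend (σ := σ) E (hLS2 r hrLS)
        (fun e he => hLScomm e (hUL _ (hEU he)) r hrLS)
        (fun h => hrn r⁻¹ (inv_mem (hEU h)) (by rw [inv_mul_cancel]; exact one_mem _))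
      refine ⟨E', fun x hx => ?_, ?_, ?_, ?_, hPfix⟩
      · rcases (hE' x).1 hx with h | h
        · exact chainIn_succ_le hLSn i (hEU h)
        · have h1 := mul_mem (chainIn_succ_le hLSn i (hEU h)) hrU
          rwa [mul_assoc, hLS2 r hrLS, mul_one] at h1
      · rw [eq_bot_iff]
        rintro x ⟨hx1, hx2⟩
        rcases (hE' x).1 hx1 with h | h
        · exact hEtriv ▸ (⟨h, hx2⟩ : x ∈ E ⊓ triv σ T χ)
        · refine absurd ?_ (hrn (x * r) (hEU h))
          rwa [mul_assoc, hLS2 r hrLS, mul_one]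
      · obtain ⟨e, he, he1⟩ := hEne
        exact ⟨e, (hE' e).2 (Or.inl he), he1⟩
      · exact ⟨nsum σ E, hEop, r, by
          rw [show k + 2 - (j + 1 + 1) = i by omega]; exact hUS i hrU, hN'⟩
  obtain ⟨E, hEU, hEtriv, -, hEop, -⟩ := claim (k + 1) le_rfl
  obtain ⟨w, hw, hw0⟩ := nsum_ne_zero hTodd hT2' hχ E
    (fun e he => mem_kerComp.1 (hLSfix e (hUL _ (hEU he))) χ hχ)
    (fun e he => hLS2 e (hUL _ (hEU he))) hEtriv
  exact hw0 (by rw [hk _ hEop, LinearMap.zero_apply])

end Cfsg.Agent.Bryukh6
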