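import Cfsg.Agent.Bryukh6.Core
import Cfsg.Agent.FGS73.PLen
import Cfsg.Agent.FGS73.QuadPair

/-!
# The 2-length is bounded by the derived length of a Sylow 2-subgroup
-/

set_option autoImplicit false

namespace Cfsg.Agent.Bryukh6

open Cfsg.Agent.FGS73 (derivedIn derivedIn_le derivedIn_eq map_derivedIn FratMod fratClass fratRep
  fratClass_mul fratClass_surjective fratRep_class pCore_le_ker_fratRep ker_fratRep
  baseChangeHom_injective)
open scoped TensorProduct

universe u

theorem plength_zero_of_sylow {H : Type u} [Group H] [Finite H] (S : Sylow 2 H)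
    (hS : ∀ s ∈ (S : Subgroup H), s = 1) (k : ℕ) : Cfsg.PLengthLE 2 k H := by
  haveI : Fact (Nat.Prime 2) := ⟨Nat.prime_two⟩
  refine top_le_iff.1 (Cfsg.Agent.FGS77.PLengthArith.absorb_coprime (N := ⊥) ?_ bot_le)
  rw [Subgroup.relIndex_bot_left, Subgroup.card_top]
  refine (Nat.prime_two.coprime_iff_not_dvd.2 fun hd => ?_).symm
  have h1 := S.dvd_card_of_dvd_card hd
  rw [(Subgroup.eq_bot_iff_forall _).2 hS, Subgroup.card_bot] at h1
  omega

/-- The kernel of the map to `(H / O_{2'}) / O_2` lies in `O_{2',2}`. -/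
theorem ker_le_upper_two {H : Type u} [Group H] [Finite H] :
    ((QuotientGroup.mk' (Cfsg.pCore 2 (H ⧸ Cfsg.pPrimeCore 2 H))).comp
      (QuotientGroup.mk' (Cfsg.pPrimeCore 2 H))).ker ≤ (Cfsg.upperPSeries 2 H 2).1 := by
  haveI : Fact (Nat.Prime 2) := ⟨Nat.prime_two⟩
  rw [← MonoidHom.comap_ker, QuotientGroup.ker_mk']
  have h1 : Cfsg.pPrimeCore 2 H ≤ (Cfsg.upperPSeries 2 H (2 * 0 + 1)).1 :=
    Cfsg.Agent.FGS77.PLengthArith.absorb_coprime (N := ⊥)
      (by rw [Subgroup.relIndex_bot_left]; exact Cfsg.Agent.Thompson.card_pPrimeCore_coprime) bot_le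
  refine Cfsg.Agent.FGS77.PLengthArith.absorb_pow (i := 0) ?_ h1
  rw [Cfsg.Agent.FGS77.PLengthArith.relIndex_comap_mk]
  exact IsPGroup.iff_card.1 Cfsg.Agent.Thompson.isPGroup_pCore

theorem opSet_baseChange {H : Type u} [Group H] {F : Type} [Field F] (K : Type) [Field K]
    [Algebra F K] {V : Type u} [AddCommGroup V] [Module F V] (σ : H →* Module.End F V)
    (S : Subgroup H) (d : ℕ) : ∀ n,
    ∀ O ∈ opSet ((Module.End.baseChangeHom F K V).toRingHom.toMonoidHom.comp σ) S d n,
      ∃ O' ∈ opSet σ S d n, O = Module.End.baseChangeHom F K V O'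
  | 0, O, hO => ⟨1, rfl, by rw [show O = 1 from hO, map_one]⟩
  | n + 1, O, hO => by
    obtain ⟨O₁, hO₁, y, hy, rfl⟩ := hO
    obtain ⟨O', hO', rfl⟩ := opSet_baseChange K σ S d n O₁ hO₁
    refine ⟨O' * (σ y - 1), ⟨O', hO', y, hy, rfl⟩, ?_⟩
    rw [map_mul, map_sub, map_one]
    rfl

theorem main : ∀ (d : ℕ) {H : Type u} [Group H] [Finite H] {V : Type u} [AddCommGroup V]
    [Module (ZMod 2) V] [Module.Finite (ZMod 2) V] (σ : H →* Module.End (ZMod 2) V),
    Function.Injective σ → Group.IsSolvable H → Cfsg.pCore 2 H = ⊥ →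
    ∀ S : Sylow 2 H, Kills σ (S : Subgroup H) d → Cfsg.PLengthLE 2 (d - 1) H := by
  intro d
  induction d with
  | zero =>
    intro H _ _ V _ _ _ σ hσ _ _ S hk
    refine plength_zero_of_sylow S (fun s hs => ?_) _
    exact hk.eq_one hσ (y := s) hs
  | succ d ih =>
    intro H _ _ V _ _ _ σ hσ hsol hO S hk
    classical
    rcases d with _ | k
    · refine plength_zero_of_sylow S (fun s hs => hσ ?_) _
      have h1 := hk _ (show (1 : Module.End (ZMod 2) V) * (σ s - 1) ∈ opSet σ (S : Subgroup H) 1 1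
        from ⟨1, rfl, s, hs, rfl⟩)
      rw [one_mul, sub_eq_zero] at h1
      rw [h1, map_one]
    haveI : Fact (Nat.Prime 2) := ⟨Nat.prime_two⟩
    haveI := hsol
    let K := AlgebraicClosure (ZMod 2)
    haveI : CharP K 2 := charP_of_injective_algebraMap (algebraMap (ZMod 2) K).injective 2
    let σK : H →* Module.End K (K ⊗[ZMod 2] V) :=
      (Module.End.baseChangeHom (ZMod 2) K V).toRingHom.toMonoidHom.comp σ
    have hσK : Function.Injective σK := fun a b h =>
      hσ (baseChangeHom_injective (ZMod 2) K V h)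
    have hkK : Kills σK (S : Subgroup H) (k + 2) := by
      intro O hO
      obtain ⟨O', hO', rfl⟩ := opSet_baseChange K σ _ _ _ O hO
      rw [hk O' hO', map_zero]
    obtain ⟨L, hLn, hLR, hAL, hLch⟩ := core hσK hsol hO S hkK
    haveI := hLn
    set πQ := QuotientGroup.mk' (Cfsg.pPrimeCore 2 H) with hπQ
    set Hb := H ⧸ Cfsg.pPrimeCore 2 H
    set πP := QuotientGroup.mk' (Cfsg.pCore 2 Hb) with hπP
    haveI : Group.IsSolvable Hb := Group.isSolvable_of_surjective (QuotientGroup.mk'_surjective _)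
    haveI : Group.IsSolvable (Hb ⧸ Cfsg.pCore 2 Hb) :=
      Group.isSolvable_of_surjective (QuotientGroup.mk'_surjective _)
    -- the classes of `L`
    let Ls : Submodule (ZMod 2) (FratMod 2 Hb) := AddSubgroup.toZModSubmodule 2
      { carrier := {v | ∃ u : Cfsg.pCore 2 Hb, (u : Hb) ∈ L ∧ fratClass u = v}
        zero_mem' := ⟨1, one_mem _, rfl⟩
        add_mem' := by
          rintro _ _ ⟨a, ha, rfl⟩ ⟨b, hb, rfl⟩
          exact ⟨a * b, mul_mem ha hb, fratClass_mul a b⟩
        neg_mem' := by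
          rintro _ ⟨a, ha, rfl⟩
          exact ⟨a⁻¹, inv_mem ha, rfl⟩ }
    have hLs : ∀ v, v ∈ Ls ↔ ∃ u : Cfsg.pCore 2 Hb, (u : Hb) ∈ L ∧ fratClass u = v := fun v => Iff.rfl
    have hinv : ∀ (y : Hb), ∀ v ∈ Ls, fratRep y v ∈ Ls := by
      intro y v hv
      obtain ⟨u, hu, rfl⟩ := (hLs v).1 hv
      exact (hLs _).2 ⟨MulAut.conjNormal y u, by
        rw [MulAut.conjNormal_apply]; exact hLn.conj_mem _ hu y, (fratRep_class y u).symm⟩
    let ρ₀ : Hb →* Module.End (ZMod 2) (Ls × (FratMod 2 Hb ⧸ Ls)) :=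
      { toFun := fun y => LinearMap.prodMap ((fratRep y).restrict (hinv y))
          (Submodule.mapQ Ls Ls (fratRep y) (fun v hv => hinv y v hv))
        map_one' := by
          refine LinearMap.ext fun w => ?_
          obtain ⟨⟨v, hv⟩, q⟩ := w
          obtain ⟨v', rfl⟩ := Submodule.Quotient.mk_surjective _ q
          simp [LinearMap.restrict_apply]
        map_mul' := fun a b => by
          refine LinearMap.ext fun w => ?_
          obtain ⟨⟨v, hv⟩, q⟩ := w
          obtain ⟨v', rfl⟩ := Submodule.Quotient.mk_surjective _ q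
          simp [LinearMap.restrict_apply] }
    have hker : Cfsg.pCore 2 Hb ≤ ρ₀.ker := by
      intro y hy
      have h1 : fratRep y = 1 := MonoidHom.mem_ker.1 (pCore_le_ker_fratRep hy)
      rw [MonoidHom.mem_ker]
      refine LinearMap.ext fun w => ?_
      obtain ⟨⟨v, hv⟩, q⟩ := w
      obtain ⟨v', rfl⟩ := Submodule.Quotient.mk_surjective _ q
      simp [ρ₀, LinearMap.restrict_apply, h1]
    let σX : Hb ⧸ Cfsg.pCore 2 Hb →* Module.End (ZMod 2) (Ls × (FratMod 2 Hb ⧸ Ls)) :=
      QuotientGroup.lift _ ρ₀ hker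
    have hσX : ∀ y, σX (πP y) = ρ₀ y := fun y => rfl
    have hsq : ∀ y, ρ₀ y = 1 → y * y ∈ Cfsg.pCore 2 Hb := by
      intro y hy
      rw [← ker_fratRep OddLocal44.isPSolvable_of_isSolvable
        Cfsg.Agent.Thompson.pPrimeCore_quotient_pPrimeCore, MonoidHom.mem_ker, map_mul]
      have h1 : (fratRep y - 1) * (fratRep y - 1) = (0 : Module.End (ZMod 2) (FratMod 2 Hb)) := by
        refine LinearMap.ext fun v => ?_
        have hv : fratRep y v - v ∈ Ls := by
          have := congrArg Prod.snd (LinearMap.congr_fun hy ((0 : Ls), Submodule.Quotient.mk v))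
          exact (Submodule.Quotient.eq Ls).1 (by simpa [ρ₀] using this)
        have h2 := congrArg (fun w => (w.1 : FratMod 2 Hb))
          (LinearMap.congr_fun hy ((⟨_, hv⟩ : Ls), (0 : FratMod 2 Hb ⧸ Ls)))
        simp only [Module.End.mul_apply, LinearMap.sub_apply, Module.End.one_apply,
          LinearMap.zero_apply]
        rw [sub_eq_zero]
        simpa [ρ₀, LinearMap.restrict_apply] using h2
      calc fratRep y * fratRep y
          = (fratRep y - 1) * (fratRep y - 1) + (fratRep y + fratRep y) - (1 + 1) + 1 := by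
            noncomm_ring
        _ = 1 := by rw [h1, zero_add, end_add_self, end_add_self, sub_zero, zero_add]
    have hσXi : Function.Injective σX := by
      rw [← MonoidHom.ker_eq_bot_iff, ← le_bot_iff,
        ← Cfsg.Agent.Thompson.pCore_quotient_pCore (p := 2) (G := Hb)]
      refine Cfsg.Agent.Thompson.le_pCore inferInstance ?_
      rintro ⟨x, hx⟩
      obtain ⟨y, rfl⟩ := QuotientGroup.mk'_surjective (Cfsg.pCore 2 Hb) x
      refine ⟨1, Subtype.ext ?_⟩
      show (πP y) ^ 2 ^ 1 = 1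
      rw [pow_one, pow_two, ← map_mul, hπP, QuotientGroup.mk'_apply, QuotientGroup.eq_one_iff]
      exact hsq y (by rw [← hσX]; exact hx)
    have hsurj : Function.Surjective (πP.comp πQ) :=
      (QuotientGroup.mk'_surjective _).comp (QuotientGroup.mk'_surjective _)
    set Sb := (S : Subgroup H).map πQ with hSb
    have hkX : Kills σX (Sb.map πP) (k + 1) := by
      intro O hO
      -- the classes of `L`
      let c₁ : L → Ls × (FratMod 2 Hb ⧸ Ls) := fun u =>
        (⟨fratClass ⟨u, hLR u.2⟩, (hLs _).2 ⟨⟨u, hLR u.2⟩, u.2, rfl⟩⟩, 0)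
      let c₂ : Cfsg.pCore 2 Hb → Ls × (FratMod 2 Hb ⧸ Ls) := fun u =>
        (0, Submodule.Quotient.mk (fratClass u))
      have hm₁ : ∀ a b : L, c₁ (a * b) = c₁ a + c₁ b := fun a b => by
        refine Prod.ext (Subtype.ext ?_) (by simp [c₁])
        exact fratClass_mul (⟨a, hLR a.2⟩ : Cfsg.pCore 2 Hb) ⟨b, hLR b.2⟩
      have hm₂ : ∀ a b : Cfsg.pCore 2 Hb, c₂ (a * b) = c₂ a + c₂ b := fun a b => by
        simp [c₂, fratClass_mul]
      have he₁ : ∀ y u, σX (πP y) (c₁ u) = c₁ (MulAut.conjNormal y u) := fun y u => by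
        rw [hσX]
        refine Prod.ext (Subtype.ext ?_) (by simp [ρ₀, c₁])
        show fratRep y (fratClass ⟨(u : Hb), hLR u.2⟩) = _
        rw [fratRep_class]
        exact congrArg fratClass (Subtype.ext (by simp [MulAut.conjNormal_apply]))
      have he₂ : ∀ y u, σX (πP y) (c₂ u) = c₂ (MulAut.conjNormal y u) := fun y u => by
        rw [hσX]
        simp [ρ₀, c₂, fratRep_class]
      have z₁ : ∀ u : L, O (c₁ u) = 0 := fun u => by
        obtain ⟨w, hw, hwe⟩ := opSet_class πP σX c₁ hm₁ he₁ (S := Sb) (M := L) (k + 1) le_rfl O hO u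
          (by rw [Nat.sub_self]; exact u.2)
        rw [hLch, Subgroup.mem_bot] at hw
        obtain rfl : w = 1 := Subtype.ext hw
        have := hm₁ 1 1
        rw [mul_one, left_eq_add] at this
        rw [hwe, this]
      have z₂ : ∀ r : Cfsg.pCore 2 Hb, O (c₂ r) = 0 := fun r => by
        obtain ⟨w, hw, hwe⟩ := opSet_class πP σX c₂ hm₂ he₂ (S := Sb) (M := Cfsg.pCore 2 Hb) (k + 1)
          le_rfl O hO r (by rw [Nat.sub_self]; exact r.2)
        have h1 : (w : Hb) ∈ L := hAL (by
          rw [map_derivedIn]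
          exact chainIn_le_derived (Cfsg.Agent.Thompson.pCore_le_sylow
            (S.mapSurjective (QuotientGroup.mk'_surjective _))) _ hw)
        rw [hwe]
        refine Prod.ext rfl ?_
        exact (Submodule.Quotient.mk_eq_zero Ls).2 ((hLs _).2 ⟨w, h1, rfl⟩)
      refine LinearMap.ext fun w => ?_
      obtain ⟨⟨v, hv⟩, q⟩ := w
      obtain ⟨v', rfl⟩ := Submodule.Quotient.mk_surjective _ q
      obtain ⟨u, hu, rfl⟩ := (hLs v).1 hv
      obtain ⟨r, rfl⟩ := fratClass_surjective v'
      have e : ((⟨fratClass u, hv⟩ : Ls), Submodule.Quotient.mk (fratClass r)) =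
          c₁ ⟨u, hu⟩ + c₂ r := by simp [c₁, c₂]
      rw [e, map_add, z₁, z₂, add_zero, LinearMap.zero_apply]
    haveI : Finite (FratMod 2 Hb) := inferInstanceAs (Finite (Additive _))
    haveI : Finite (FratMod 2 Hb ⧸ Ls) := Finite.of_surjective _ (Submodule.Quotient.mk_surjective Ls)
    haveI : Module.Finite (ZMod 2) (Ls × (FratMod 2 Hb ⧸ Ls)) := Module.Finite.of_finite
    have hIH := ih σX hσXi inferInstance Cfsg.Agent.Thompson.pCore_quotient_pCore
      (S.mapSurjective hsurj) (by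
        rw [Sylow.coe_mapSurjective, ← Subgroup.map_map]
        exact hkX)
    exact plength_lift (πP.comp πQ) hsurj ker_le_upper_two hIH

/-- Bryukhanova's theorem. -/
theorem two_length_le {G : Type u} [Group G] [Finite G] (hG : Cfsg.IsPSolvable 2 G) (d : ℕ)
    (hd : ∀ P : Sylow 2 G, derivedSeries (P : Subgroup G) d = ⊥) : Cfsg.PLengthLE 2 d G := by
  classical
  haveI : Fact (Nat.Prime 2) := ⟨Nat.prime_two⟩
  obtain ⟨S⟩ : Nonempty (Sylow 2 G) := inferInstance
  have hS : derivedIn (S : Subgroup G) d = ⊥ := by rw [← derivedIn_eq, hd S, Subgroup.map_bot]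
  rcases d with _ | k
  · exact plength_zero_of_sylow S (fun s hs => by
      have : s ∈ derivedIn (S : Subgroup G) 0 := hs
      rwa [hS, Subgroup.mem_bot] at this) _
  haveI := isSolvable_of_isPSolvable_two hG
  set πQ := QuotientGroup.mk' (Cfsg.pPrimeCore 2 G) with hπQ
  set Y := G ⧸ Cfsg.pPrimeCore 2 G
  set πP := QuotientGroup.mk' (Cfsg.pCore 2 Y) with hπP
  haveI : Group.IsSolvable Y := Group.isSolvable_of_surjective (QuotientGroup.mk'_surjective _)
  haveI : Group.IsSolvable (Y ⧸ Cfsg.pCore 2 Y) :=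
    Group.isSolvable_of_surjective (QuotientGroup.mk'_surjective _)
  let σ : Y ⧸ Cfsg.pCore 2 Y →* Module.End (ZMod 2) (FratMod 2 Y) :=
    QuotientGroup.lift _ fratRep pCore_le_ker_fratRep
  have hσ : Function.Injective σ := by
    rw [← MonoidHom.ker_eq_bot_iff, eq_bot_iff]
    intro x hx
    obtain ⟨g, rfl⟩ := QuotientGroup.mk'_surjective (Cfsg.pCore 2 Y) x
    rw [Subgroup.mem_bot, QuotientGroup.mk'_apply, QuotientGroup.eq_one_iff,
      ← ker_fratRep OddLocal44.isPSolvable_of_isSolvable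
        Cfsg.Agent.Thompson.pPrimeCore_quotient_pPrimeCore]
    exact hx
  have hsurj : Function.Surjective (πP.comp πQ) :=
    (QuotientGroup.mk'_surjective _).comp (QuotientGroup.mk'_surjective _)
  have hk : Kills σ (((S : Subgroup G).map πQ).map πP) (k + 1) := by
    intro O hO
    refine LinearMap.ext fun v => ?_
    obtain ⟨r, rfl⟩ := fratClass_surjective v
    obtain ⟨w, hw, hwe⟩ := opSet_class πP σ fratClass fratClass_mul (fun y u => fratRep_class y u)
      (M := Cfsg.pCore 2 Y) (k + 1) le_rfl O hO r (by rw [Nat.sub_self]; exact r.2)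
    have h1 := chainIn_le_derived (S := (S : Subgroup G).map πQ)
      (Cfsg.Agent.Thompson.pCore_le_sylow (S.mapSurjective (QuotientGroup.mk'_surjective _))) _ hw
    rw [← map_derivedIn, hS, Subgroup.map_bot, Subgroup.mem_bot] at h1
    obtain rfl : w = 1 := Subtype.ext h1
    rw [hwe, LinearMap.zero_apply]
    rfl
  haveI : Finite (FratMod 2 Y) := inferInstanceAs (Finite (Additive _))
  haveI : Module.Finite (ZMod 2) (FratMod 2 Y) := Module.Finite.of_finite
  have h2 := main (k + 1) σ hσ inferInstance Cfsg.Agent.Thompson.pCore_quotient_pCore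
    (S.mapSurjective hsurj) (by rw [Sylow.coe_mapSurjective, ← Subgroup.map_map]; exact hk)
  exact plength_lift (πP.comp πQ) hsurj ker_le_upper_two h2

end Cfsg.Agent.Bryukh6
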