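import Mathlib

/-!
# Norms of elementary abelian 2-groups acting on a quasi-simple component in characteristic two

`T` is a finite group of odd order acting on `M` such that commutators act as scalars and elements
central in the image are scalars; `E` is an elementary abelian 2-group normalising the image of `T`
and acting faithfully on it.  Then the norm `∑ e ∈ E, e` is non-zero.
-/

set_option autoImplicit false

namespace Cfsg.Agent.Bryukh6

variable {K : Type*} [Field K] [CharP K 2] {M : Type*} [AddCommGroup M] [Module K M]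
  {T E : Type*} [Group T] [Finite T] [Group E] [Finite E]

theorem eq_one_of_sq {c : K} (h : c * c = 1) : c = 1 := by
  have h1 : (c + 1) * (c + 1) = 0 := by
    rw [CharTwo.add_mul_self, h, one_mul, CharTwo.add_self_eq_zero]
  have h2 : c + 1 = 0 := mul_self_eq_zero.1 h1
  exact CharTwo.add_eq_zero.1 h2

theorem end_add_self (A : Module.End K M) : A + A = 0 := by
  rw [← two_smul K A, CharTwo.two_eq_zero, zero_smul]

omit [CharP K 2] [Finite T] in
theorem scal_inv_right {τ : T →* Module.End K M} {a b : T} {c : K}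
    (hc : τ a * τ b = c • (τ b * τ a)) : τ b⁻¹ * τ a = c • (τ a * τ b⁻¹) := by
  calc τ b⁻¹ * τ a = τ b⁻¹ * τ a * τ (b * b⁻¹) := by rw [mul_inv_cancel, map_one, mul_one]
    _ = τ b⁻¹ * (τ a * τ b) * τ b⁻¹ := by rw [map_mul]; noncomm_ring
    _ = c • (τ (b⁻¹ * b) * τ a * τ b⁻¹) := by
        rw [hc, mul_smul_comm, smul_mul_assoc, map_mul]; noncomm_ring
    _ = c • (τ a * τ b⁻¹) := by rw [inv_mul_cancel, map_one, one_mul]

omit [CharP K 2] [Finite T] in
theorem scal_inv_left {τ : T →* Module.End K M} {a b : T} {c : K}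
    (hc : τ a * τ b = c • (τ b * τ a)) : τ b * τ a⁻¹ = c • (τ a⁻¹ * τ b) := by
  calc τ b * τ a⁻¹ = τ (a⁻¹ * a) * (τ b * τ a⁻¹) := by rw [inv_mul_cancel, map_one, one_mul]
    _ = τ a⁻¹ * (τ a * τ b) * τ a⁻¹ := by rw [map_mul]; noncomm_ring
    _ = c • (τ a⁻¹ * τ b * τ (a * a⁻¹)) := by
        rw [hc, mul_smul_comm, smul_mul_assoc, map_mul]; noncomm_ring
    _ = c • (τ a⁻¹ * τ b) := by rw [mul_inv_cancel, map_one, mul_one]

variable (τ : T →* Module.End K M) (η : E →* Module.End K M) (φ : E → T → T)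

/-- the norm of a subgroup -/
noncomputable def nrm (E₀ : Subgroup E) : Module.End K M :=
  letI := Fintype.ofFinite E₀
  ∑ e : E₀, η (e : E)

structure Setting : Prop where
  compat : ∀ e t, η e * τ t = τ (φ e t) * η e
  invol : ∀ e : E, e * e = 1
  scal : ∀ s t, ∃ c : K, τ s * τ t = c • (τ t * τ s)
  nondeg : ∀ t, (∀ s, Commute (τ t) (τ s)) → ∃ c : K, τ t = c • 1
  odd : Odd (Nat.card T)
  faithful : ∀ e, (∀ t, Commute (η e) (τ t)) → e = 1

variable {τ η φ} (h : Setting τ η φ)
include h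

omit [CharP K 2] [Finite T] [Finite E] in
theorem Setting.sq (e : E) : η e * η e = 1 := by rw [← map_mul, h.invol, map_one]

omit [CharP K 2] [Finite T] [Finite E] in
theorem Setting.conj (e : E) (t : T) : η e * τ t * η e = τ (φ e t) := by
  rw [h.compat, mul_assoc, h.sq, mul_one]

omit [CharP K 2] [Finite T] [Finite E] in
theorem Setting.conj_inv (e : E) (x : T) : η e * τ x⁻¹ * η e = τ (φ e x)⁻¹ := by
  have h1 : η e * τ x⁻¹ * η e * τ (φ e x) = 1 := by
    rw [← h.conj e x]
    calc η e * τ x⁻¹ * η e * (η e * τ x * η e)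
        = η e * τ x⁻¹ * (η e * η e) * τ x * η e := by noncomm_ring
      _ = η e * (τ x⁻¹ * τ x) * η e := by rw [h.sq]; noncomm_ring
      _ = 1 := by rw [← map_mul, inv_mul_cancel, map_one, mul_one, h.sq]
  calc η e * τ x⁻¹ * η e = η e * τ x⁻¹ * η e * (τ (φ e x) * τ (φ e x)⁻¹) := by
        rw [← map_mul, mul_inv_cancel, map_one, mul_one]
    _ = τ (φ e x)⁻¹ := by rw [← mul_assoc, h1, one_mul]

omit [Finite T] [Finite E] in
/-- An involution commuting up to a scalar commutes. -/
theorem Setting.commute_of_scalar {e : E} {x : T} {c : K} (hc : η e * τ x * η e = c • τ x) :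
    Commute (η e) (τ x) := by
  have h1 : τ x = (c * c) • τ x := by
    calc τ x = η e * (η e * τ x * η e) * η e := by
          rw [← mul_assoc, ← mul_assoc, h.sq, one_mul, mul_assoc, h.sq, mul_one]
      _ = (c * c) • τ x := by
          rw [hc, mul_smul_comm, smul_mul_assoc, hc, smul_smul]
  have h2 : η e * τ x * η e = τ x := by
    rcases eq_or_ne (τ x) 0 with h0 | h0
    · rw [h0, mul_zero, zero_mul]
    · have : c * c = 1 := by
        have h3 : (c * c - 1) • τ x = 0 := by rw [sub_smul, one_smul, ← h1, sub_self]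
        rcases smul_eq_zero.1 h3 with h4 | h4
        · exact sub_eq_zero.1 h4
        · exact absurd h4 h0
      rw [hc, eq_one_of_sq this, one_smul]
  calc η e * τ x = η e * τ x * (η e * η e) := by rw [h.sq, mul_one]
    _ = τ x * η e := by rw [← mul_assoc, h2]

omit [CharP K 2] [Finite T] [Finite E] in
theorem Setting.commute_iff {e : E} {x : T} : Commute (η e) (τ x) ↔ τ (φ e x) = τ x := by
  rw [← h.conj]
  constructor
  · intro hc; rw [hc.eq, mul_assoc, h.sq, mul_one]
  · intro hc
    calc η e * τ x = η e * τ x * (η e * η e) := by rw [h.sq, mul_one]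
      _ = τ x * η e := by rw [← mul_assoc, hc]

omit [CharP K 2] [Finite T] [Finite E] in
theorem Setting.comm (a b : E) : a * b = b * a := by
  have h1 : ∀ x : E, x⁻¹ = x := fun x => inv_eq_of_mul_eq_one_right (h.invol x)
  calc a * b = (a * b)⁻¹ := (h1 _).symm
    _ = b * a := by rw [mul_inv_rev, h1, h1]

theorem Setting.nrm_mul_ne_zero : ∀ (E₀ : Subgroup E) (X : Module.End K M),
    (∀ e ∈ E₀, Commute X (η e)) → (∀ e ∈ E₀, ∀ s, Commute X (τ (s⁻¹ * φ e s))) → X ≠ 0 →
    nrm η E₀ * X ≠ 0 := by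
  classical
  intro E₀
  induction hn : Nat.card E₀ using Nat.strong_induction_on generalizing E₀ with
  | _ n ih =>
  intro X hXη hXτ hX
  rcases eq_or_ne E₀ ⊥ with rfl | hne
  · have : nrm η (⊥ : Subgroup E) = 1 := by
      unfold nrm
      letI := Fintype.ofFinite (⊥ : Subgroup E)
      rw [Fintype.sum_unique]
      exact map_one η
    rw [this, one_mul]; exact hX
  obtain ⟨⟨u₀, hu₀⟩, hu₀'⟩ := Subgroup.ne_bot_iff_exists_ne_one.1 hne
  have hu₀1 : u₀ ≠ 1 := fun h1 => hu₀' (Subtype.ext h1)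
  -- a maximal subgroup fixing more than `E₀` does
  obtain ⟨E₁, ⟨hE₁le, t, ht₁, ht₀⟩, hmax⟩ := ({E₁ : Subgroup E | E₁ ≤ E₀ ∧ ∃ t,
      (∀ e ∈ E₁, Commute (η e) (τ t)) ∧ ∃ e ∈ E₀, ¬ Commute (η e) (τ t)}).toFinite.exists_maximal
    ⟨⊥, bot_le, by
      by_contra hh
      refine hu₀1 (h.faithful u₀ fun t => ?_)
      by_contra hc
      refine hh ⟨t, fun e he => ?_, u₀, hu₀, hc⟩
      rw [Subgroup.mem_bot.1 he, map_one]
      exact Commute.one_left _⟩
  have hall : ∀ e ∈ E₀, e ∉ E₁ → ∀ e' ∈ E₀, Commute (η e') (τ (t * φ e t)) := by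
    intro e he hne' e' he'
    by_contra hc
    have hlt : E₁ < E₁ ⊔ Subgroup.zpowers e :=
      lt_of_le_of_ne le_sup_left fun h1 => hne' (h1 ▸ Subgroup.mem_sup_right (Subgroup.mem_zpowers e))
    have hmem : E₁ ⊔ Subgroup.zpowers e ∈ ({E₁ : Subgroup E | E₁ ≤ E₀ ∧ ∃ t,
        (∀ e ∈ E₁, Commute (η e) (τ t)) ∧ ∃ e ∈ E₀, ¬ Commute (η e) (τ t)}) := by
      refine ⟨sup_le hE₁le (Subgroup.zpowers_le.2 he), t * φ e t, ?_, e', he', hc⟩
      let C : Subgroup E :=
        { carrier := {x | Commute (η x) (τ (t * φ e t))}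
          one_mem' := by rw [Set.mem_setOf_eq, map_one]; exact Commute.one_left _
          mul_mem' := fun {a b} ha hb => by
            rw [Set.mem_setOf_eq, map_mul]; exact Commute.mul_left ha hb
          inv_mem' := fun {a} ha => by
            rwa [Set.mem_setOf_eq, inv_eq_of_mul_eq_one_right (h.invol a)] }
      suffices E₁ ⊔ Subgroup.zpowers e ≤ C from fun x hx => this hx
      refine sup_le (fun x hx => ?_) (Subgroup.zpowers_le.2 ?_)
      · change Commute (η x) (τ (t * φ e t))
        rw [map_mul, ← h.conj]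
        have hxe : Commute (η x) (η e) := by
          change η x * η e = η e * η x
          rw [← map_mul, ← map_mul, h.comm]
        exact (ht₁ x hx).mul_right ((hxe.mul_right (ht₁ x hx)).mul_right hxe)
      · change Commute (η e) (τ (t * φ e t))
        obtain ⟨c, hc⟩ := h.scal (φ e t) t
        refine h.commute_of_scalar (c := c) ?_
        rw [map_mul, ← hc, ← h.conj]
        calc η e * (τ t * (η e * τ t * η e)) * η e = η e * τ t * η e * (τ t * (η e * η e)) := by
              noncomm_ring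
          _ = η e * τ t * η e * τ t := by rw [h.sq, mul_one]
    exact absurd (hmax hmem hlt.le) hlt.not_ge
  obtain ⟨u, huE, hut⟩ := ht₀
  have hu1 : u ∉ E₁ := fun hh => hut (ht₁ u hh)
  -- `E₁` has index two in `E₀`
  have hdich : ∀ e ∈ E₀, e ∉ E₁ → u * e ∈ E₁ := by
    intro e he he1
    by_contra hue
    have hueE : u * e ∈ E₀ := mul_mem huE he
    obtain ⟨m, hm⟩ : ∃ m : T, m = t * φ u t := ⟨_, rfl⟩
    obtain ⟨m', hm'⟩ : ∃ m' : T, m' = t * φ e t := ⟨_, rfl⟩
    obtain ⟨m'', hm''⟩ : ∃ m'' : T, m'' = t * φ (u * e) t := ⟨_, rfl⟩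
    have hm0 : Commute (η u) (τ m) := hm ▸ hall u huE hu1 u huE
    have hm1 : Commute (η u) (τ m') := hm' ▸ hall e he he1 u huE
    have hm2 : Commute (η u) (τ m'') := hm'' ▸ hall _ hueE hue u huE
    have e1 : φ e t = t⁻¹ * m' := by rw [hm']; group
    have e2 : φ u t = t⁻¹ * m := by rw [hm]; group
    have key : τ (t⁻¹ * m'') = τ (m⁻¹ * t * m') := by
      rw [show t⁻¹ * m'' = φ (u * e) t by rw [hm'']; group, ← h.conj, map_mul]
      calc η u * η e * τ t * (η u * η e) = η u * η e * τ t * (η e * η u) := by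
            congr 1
            rw [← map_mul, h.comm u e, map_mul]
        _ = η u * (η e * τ t * η e) * η u := by noncomm_ring
        _ = η u * (τ t⁻¹ * τ m') * η u := by rw [h.conj, e1, map_mul]
        _ = η u * τ t⁻¹ * η u * (η u * τ m' * η u) := by
            calc _ = η u * τ t⁻¹ * 1 * τ m' * η u := by noncomm_ring
              _ = _ := by rw [← h.sq u]; noncomm_ring
        _ = τ (m⁻¹ * t) * τ m' := by
            rw [h.conj_inv, e2, mul_inv_rev, inv_inv, hm1.eq, mul_assoc, h.sq,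
              mul_one]
        _ = τ (m⁻¹ * t * m') := (map_mul τ _ _).symm
    obtain ⟨c, hc⟩ := h.scal m⁻¹ t
    have h2 : τ m'' = c • (τ (t * t) * τ (m⁻¹ * m')) := by
      calc τ m'' = τ t * τ (t⁻¹ * m'') := by rw [← map_mul, mul_inv_cancel_left]
        _ = τ t * (τ m⁻¹ * τ t) * τ m' := by rw [key, map_mul, map_mul]; noncomm_ring
        _ = c • (τ (t * t) * τ (m⁻¹ * m')) := by
            rw [hc, mul_smul_comm, smul_mul_assoc, map_mul, map_mul]; noncomm_ring
    have hinv : ∀ x : T, ∀ a : Module.End K M, Commute a (τ x) → Commute a (τ x⁻¹) := fun x a ha => by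
      change a * τ x⁻¹ = τ x⁻¹ * a
      calc a * τ x⁻¹ = τ x⁻¹ * (τ x * a) * τ x⁻¹ := by
            rw [← mul_assoc, ← map_mul, inv_mul_cancel, map_one, one_mul]
        _ = τ x⁻¹ * a := by
            rw [← ha.eq, mul_assoc, mul_assoc, ← map_mul, mul_inv_cancel, map_one, mul_one]
    have htt : Commute (η u) (τ (t * t)) := by
      rcases eq_or_ne c 0 with rfl | hc0
      · rw [zero_smul] at h2
        have : (1 : Module.End K M) = 0 := by
          rw [← map_one τ, ← mul_inv_cancel m'', map_mul, h2, zero_mul]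
        change η u * τ (t * t) = τ (t * t) * η u
        rw [← one_mul (η u * τ (t * t)), this, zero_mul, ← one_mul (τ (t * t) * η u), this, zero_mul]
      have h3 : τ (t * t) = c⁻¹ • (τ m'' * τ (m⁻¹ * m')⁻¹) := by
        rw [h2, smul_mul_assoc, smul_smul, inv_mul_cancel₀ hc0, one_smul, mul_assoc, ← map_mul,
          mul_inv_cancel, map_one, mul_one]
      rw [h3]
      refine (Commute.mul_right hm2 (hinv _ _ ?_)).smul_right _
      rw [map_mul]
      exact (hinv _ _ hm0).mul_right hm1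
    apply hut
    obtain ⟨j, hj⟩ := h.odd
    have : (t * t) ^ (j + 1) = t := by
      rw [← pow_two, ← pow_mul, show 2 * (j + 1) = 2 * j + 1 + 1 by ring, pow_succ, ← hj,
        pow_card_eq_one', one_mul]
    rw [← this, map_pow]
    exact htt.pow_right _
  obtain ⟨f, hf⟩ : ∃ f : T, f = t⁻¹ * φ u t := ⟨_, rfl⟩
  have hcu : ∀ e : E, Commute (η e) (η u) := fun e => by
    change η e * η u = η u * η e
    rw [← map_mul, ← map_mul, h.comm]
  have hfE₁ : ∀ e ∈ E₁, Commute (η e) (τ f) := by
    intro e he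
    have h1 : η e * τ t⁻¹ * η e = τ t⁻¹ := by
      rw [h.conj_inv]
      have h2 := h.commute_iff.1 (ht₁ e he)
      calc τ (φ e t)⁻¹ = τ t⁻¹ * τ t * τ (φ e t)⁻¹ := by
            rw [← map_mul, inv_mul_cancel, map_one, one_mul]
        _ = τ t⁻¹ := by rw [← h2, mul_assoc, ← map_mul, mul_inv_cancel, map_one, mul_one]
    rw [hf, map_mul, ← h.conj]
    refine Commute.mul_right ?_ (((hcu e).mul_right (ht₁ e he)).mul_right (hcu e))
    calc η e * τ t⁻¹ = η e * τ t⁻¹ * (η e * η e) := by rw [h.sq, mul_one]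
      _ = τ t⁻¹ * η e := by rw [← mul_assoc, h1]
  have hufu : η u * τ f * η u = τ f⁻¹ := by
    calc η u * τ f * η u = η u * τ t⁻¹ * η u * (η u * τ (φ u t) * η u) := by
          rw [hf, map_mul]
          calc _ = η u * τ t⁻¹ * 1 * τ (φ u t) * η u := by noncomm_ring
            _ = _ := by rw [← h.sq u]; noncomm_ring
      _ = τ (φ u t)⁻¹ * τ t := by
          rw [h.conj_inv, ← h.conj]
          congr 1
          rw [← mul_assoc, ← mul_assoc, h.sq, one_mul, mul_assoc, h.sq, mul_one]
      _ = τ f⁻¹ := by rw [hf, mul_inv_rev, inv_inv, map_mul]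
  -- splitting of the norm
  have hsplit : nrm η E₀ = nrm η E₁ * (1 + η u) := by
    unfold nrm
    letI := Fintype.ofFinite E₀
    letI := Fintype.ofFinite E₁
    let g : E₁ ⊕ E₁ → E₀ := Sum.elim (fun x => ⟨x, hE₁le x.2⟩)
      (fun x => ⟨(x : E) * u, mul_mem (hE₁le x.2) huE⟩)
    have hg : Function.Bijective g := by
      constructor
      · rintro (a | a) (b | b) hab <;> simp only [g, Sum.elim_inl, Sum.elim_inr, Subtype.mk.injEq] at hab
        · exact congrArg Sum.inl (Subtype.ext hab)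
        · exact absurd (by rw [show u = (b : E)⁻¹ * a by rw [hab]; group]
                           exact mul_mem (inv_mem b.2) a.2) hu1
        · exact absurd (by rw [show u = (a : E)⁻¹ * b by rw [← hab]; group]
                           exact mul_mem (inv_mem a.2) b.2) hu1
        · exact congrArg Sum.inr (Subtype.ext (mul_right_cancel hab))
      · rintro ⟨e, he⟩
        by_cases he1 : e ∈ E₁
        · exact ⟨Sum.inl ⟨e, he1⟩, rfl⟩
        · exact ⟨Sum.inr ⟨u * e, hdich e he he1⟩, Subtype.ext (by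
            change u * e * u = e
            rw [h.comm u e, mul_assoc, h.invol, mul_one])⟩
    rw [← (Equiv.ofBijective g hg).sum_comp, Fintype.sum_sum_type, mul_add, mul_one, Finset.sum_mul]
    congr 1
    refine Finset.sum_congr rfl fun x _ => ?_
    exact map_mul η _ _
  intro hzero
  rw [hsplit] at hzero
  have hXu : Commute X (η u) := hXη u huE
  have hXf : Commute X (τ f) := by rw [hf]; exact hXτ u huE t
  have hN1f : Commute (τ f) (nrm η E₁) := by
    unfold nrm
    letI := Fintype.ofFinite E₁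
    exact Commute.sum_right _ _ _ fun e _ => (hfE₁ e e.2).symm
  have hfu : τ f * η u = τ f * τ f * η u * τ f := by
    have h5 : η u * τ f = τ f⁻¹ * η u := by
      calc η u * τ f = η u * τ f * η u * η u := by rw [mul_assoc (η u * τ f), h.sq, mul_one]
        _ = _ := by rw [hufu]
    rw [mul_assoc (τ f * τ f), h5, ← mul_assoc, mul_assoc (τ f), ← map_mul, mul_inv_cancel, map_one,
      mul_one]
  have h4 : nrm η E₁ * (1 + τ f * τ f * η u) * X * τ f = 0 := by
    calc nrm η E₁ * (1 + τ f * τ f * η u) * X * τ f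
        = nrm η E₁ * (τ f + τ f * τ f * η u * τ f) * X := by
          rw [mul_assoc _ X, hXf.eq]; noncomm_ring
      _ = τ f * (nrm η E₁ * (1 + η u) * X) := by
          rw [← hfu, ← mul_assoc, ← mul_assoc, hN1f.eq]; noncomm_ring
      _ = 0 := by rw [hzero, mul_zero]
  have h5 : nrm η E₁ * (1 + τ f * τ f * η u) * X = 0 := by
    calc _ = nrm η E₁ * (1 + τ f * τ f * η u) * X * (τ f * τ f⁻¹) := by
          rw [← map_mul τ f f⁻¹, mul_inv_cancel, map_one, mul_one]
      _ = 0 := by rw [← mul_assoc, h4, zero_mul]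
  have h6 : nrm η E₁ * ((1 + τ f * τ f) * X) = 0 := by
    have h7 : nrm η E₁ * (1 + τ f * τ f) * X * η u = 0 := by
      calc nrm η E₁ * (1 + τ f * τ f) * X * η u
          = nrm η E₁ * (η u + τ f * τ f * η u) * X := by rw [mul_assoc _ X, hXu.eq]; noncomm_ring
        _ = nrm η E₁ * (1 + η u) * X + nrm η E₁ * (1 + τ f * τ f * η u) * X
              - (nrm η E₁ * X + nrm η E₁ * X) := by noncomm_ring
        _ = 0 := by rw [hzero, h5, add_zero, end_add_self, sub_zero]
    calc _ = nrm η E₁ * (1 + τ f * τ f) * X * (η u * η u) := by rw [h.sq, mul_one, mul_assoc]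
      _ = 0 := by rw [← mul_assoc, h7, zero_mul]
  have hlt : Nat.card E₁ < n := by
    rw [← hn]
    exact Set.ncard_lt_ncard (SetLike.coe_ssubset_coe.2
      (lt_of_le_of_ne hE₁le fun h1 => hu1 (h1 ▸ huE)))
  refine ih _ hlt E₁ rfl _ (fun e he => ?_) (fun e he s => ?_) ?_ h6
  · exact ((Commute.one_left _).add_left ((hfE₁ e he).symm.mul_left (hfE₁ e he).symm)).mul_left
      (hXη e (hE₁le he))
  · have hfs : Commute (τ f) (τ (s⁻¹ * φ e s)) := by
      obtain ⟨ζ, hζ⟩ := h.scal (τ := τ) f s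
      have hef : τ (φ e f) = τ f := h.commute_iff.1 (hfE₁ e he)
      have h1 : τ f * τ (φ e s) = ζ • (τ (φ e s) * τ f) := by
        calc τ f * τ (φ e s) = (η e * τ f * η e) * (η e * τ s * η e) := by
              rw [h.conj, h.conj, hef]
          _ = η e * (τ f * τ s) * η e := by
              calc _ = η e * τ f * (η e * η e) * τ s * η e := by noncomm_ring
                _ = _ := by rw [h.sq]; noncomm_ring
          _ = ζ • ((η e * τ s * η e) * (η e * τ f * η e)) := by
              rw [hζ, mul_smul_comm, smul_mul_assoc]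
              congr 1
              calc _ = η e * τ s * (η e * η e) * τ f * η e := by rw [h.sq]; noncomm_ring
                _ = _ := by noncomm_ring
          _ = _ := by rw [h.conj, h.conj, hef]
      have h3 : τ s⁻¹ * τ f = ζ • (τ f * τ s⁻¹) := scal_inv_right hζ
      change τ f * τ (s⁻¹ * φ e s) = τ (s⁻¹ * φ e s) * τ f
      rcases eq_or_ne ζ 0 with rfl | hζ0
      · rw [zero_smul] at hζ
        have : (1 : Module.End K M) = 0 := by
          rw [← map_one τ, ← mul_inv_cancel (f * s), map_mul, map_mul, hζ, zero_mul]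
        rw [← one_mul (τ f * _), this, zero_mul, ← one_mul (τ (s⁻¹ * φ e s) * τ f), this, zero_mul]
      · rw [map_mul, ← mul_assoc, mul_assoc (τ s⁻¹)]
        have h4 : τ f * τ s⁻¹ = ζ⁻¹ • (τ s⁻¹ * τ f) := by
          rw [h3, smul_smul, inv_mul_cancel₀ hζ0, one_smul]
        rw [h4, smul_mul_assoc, mul_assoc, h1, mul_smul_comm, smul_smul, inv_mul_cancel₀ hζ0, one_smul]
    exact ((Commute.one_left _).add_left (hfs.mul_left hfs)).mul_left (hXτ e (hE₁le he) s)
  · intro hX'
    have hfX : τ f * τ f * X = X := by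
      calc τ f * τ f * X = (1 + τ f * τ f) * X - X := by noncomm_ring
        _ = X := by rw [hX', zero_sub, neg_eq_of_add_eq_zero_left (end_add_self X)]
    obtain ⟨s, hs⟩ : ∃ s, ¬ Commute (τ f) (τ s) := by
      by_contra hh
      push Not at hh
      obtain ⟨c, hc⟩ := h.nondeg (τ := τ) f hh
      apply hut
      refine h.commute_of_scalar (c := c) ?_
      rw [h.conj, show φ u t = t * f by rw [hf]; group, map_mul, hc, mul_smul_comm, mul_one]
    obtain ⟨ζ, hζ⟩ := h.scal (τ := τ) f s
    have hζ0 : ζ ≠ 0 := by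
      rintro rfl
      rw [zero_smul] at hζ
      have : (1 : Module.End K M) = 0 := by
        rw [← map_one τ, ← mul_inv_cancel (f * s), map_mul, map_mul, hζ, zero_mul]
      exact hX (by rw [← one_mul X, this, zero_mul])
    have hζ1 : ζ ≠ 1 := fun h1 => hs (by rw [h1, one_smul] at hζ; exact hζ)
    obtain ⟨s', hs'⟩ : ∃ s' : T, s' = s⁻¹ * φ u s := ⟨_, rfl⟩
    have h1 : τ f * τ s⁻¹ = ζ⁻¹ • (τ s⁻¹ * τ f) := by
      have h3 : τ s⁻¹ * τ f = ζ • (τ f * τ s⁻¹) := scal_inv_right hζ
      rw [h3, smul_smul, inv_mul_cancel₀ hζ0, one_smul]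
    have h2 : τ f * τ (φ u s) = ζ⁻¹ • (τ (φ u s) * τ f) := by
      have h3 : τ f⁻¹ * τ s = ζ⁻¹ • (τ s * τ f⁻¹) := by
        have h8 : τ s * τ f⁻¹ = ζ • (τ f⁻¹ * τ s) := scal_inv_left hζ
        rw [h8, smul_smul, inv_mul_cancel₀ hζ0, one_smul]
      have h9 : η u * τ f⁻¹ * η u = τ f := by
        rw [← hufu]
        calc η u * (η u * τ f * η u) * η u = (η u * η u) * τ f * (η u * η u) := by noncomm_ring
          _ = τ f := by rw [h.sq, one_mul, mul_one]
      calc τ f * τ (φ u s) = (η u * τ f⁻¹ * η u) * (η u * τ s * η u) := by rw [h9, h.conj]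
        _ = η u * (τ f⁻¹ * τ s) * η u := by
            calc _ = η u * τ f⁻¹ * (η u * η u) * τ s * η u := by noncomm_ring
              _ = _ := by rw [h.sq]; noncomm_ring
        _ = ζ⁻¹ • ((η u * τ s * η u) * (η u * τ f⁻¹ * η u)) := by
            rw [h3, mul_smul_comm, smul_mul_assoc]
            congr 1
            calc _ = η u * τ s * (η u * η u) * τ f⁻¹ * η u := by rw [h.sq]; noncomm_ring
              _ = _ := by noncomm_ring
        _ = _ := by rw [h9, h.conj]
    have h10 : τ f * τ s' = (ζ⁻¹ * ζ⁻¹) • (τ s' * τ f) := by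
      rw [hs', map_mul, ← mul_assoc, h1, smul_mul_assoc, mul_assoc, h2, mul_smul_comm, smul_smul,
        ← mul_assoc]
    have h11 : τ f * τ f * τ s' = ((ζ⁻¹ * ζ⁻¹) * (ζ⁻¹ * ζ⁻¹)) • (τ s' * (τ f * τ f)) := by
      rw [mul_assoc (τ f), h10, mul_smul_comm, ← mul_assoc (τ f), h10, smul_mul_assoc, smul_smul,
        mul_assoc (τ s')]
    have hXs : Commute X (τ s') := by rw [hs']; exact hXτ u huE s
    have hfix : X * τ s' = ((ζ⁻¹ * ζ⁻¹) * (ζ⁻¹ * ζ⁻¹)) • (X * τ s') := by
      calc X * τ s' = τ f * τ f * X * τ s' := by rw [hfX]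
        _ = τ f * τ f * τ s' * X := by rw [mul_assoc, hXs.eq, ← mul_assoc]
        _ = _ := by rw [h11, smul_mul_assoc, mul_assoc (τ s'), hfX, hXs.eq]
    have h12 : (ζ⁻¹ * ζ⁻¹) * (ζ⁻¹ * ζ⁻¹) = 1 := by
      by_contra hne4
      have h14 : ((1 : K) - (ζ⁻¹ * ζ⁻¹) * (ζ⁻¹ * ζ⁻¹)) • (X * τ s') = 0 := by
        rw [sub_smul, one_smul, ← hfix, sub_self]
      rcases smul_eq_zero.1 h14 with h15 | h15
      · exact hne4 (sub_eq_zero.1 h15).symm
      · exact hX (by rw [← mul_one X, ← map_one τ, ← mul_inv_cancel s', map_mul, ← mul_assoc, h15,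
          zero_mul])
    have h13 := eq_one_of_sq (eq_one_of_sq h12)
    exact hζ1 (inv_eq_one.1 h13)

end Cfsg.Agent.Bryukh6
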