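import Cfsg.Agent.FGS73.DerivedLenGroup
import Cfsg.Agent.FGS77.PLengthArith
import Cfsg.Agent.Lib.PGroup.Basic

/-!
# Operator chains along the derived series of a 2-subgroup and orbits on direct decompositions
-/

set_option autoImplicit false

namespace Cfsg.Agent.Bryukh6

open Cfsg.Agent.FGS73 (derivedIn derivedIn_le derivedIn_eq)
open scoped commutatorElement

variable {H : Type*} [Group H]

theorem derivedIn_succ (S : Subgroup H) (i : ℕ) :
    derivedIn S (i + 1) = ⁅derivedIn S i, derivedIn S i⁆ := rfl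

theorem derivedIn_succ_le (S : Subgroup H) (i : ℕ) : derivedIn S (i + 1) ≤ derivedIn S i := by
  rw [derivedIn_succ]
  exact Subgroup.commutator_le_self _

theorem derivedIn_anti (S : Subgroup H) {i j : ℕ} (h : i ≤ j) : derivedIn S j ≤ derivedIn S i := by
  induction h with
  | refl => exact le_rfl
  | step _ ih => exact (derivedIn_succ_le S _).trans ih

theorem derivedIn_add (S : Subgroup H) (i : ℕ) :
    ∀ j, derivedIn (derivedIn S i) j = derivedIn S (i + j)
  | 0 => rfl
  | j + 1 => by rw [derivedIn_succ, derivedIn_add S i j, ← add_assoc, derivedIn_succ]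

/-- In a 2-group a subgroup of index at most `2 ^ n` contains the `n`th derived subgroup. -/
theorem derivedSeries_le_of_index : ∀ (n : ℕ) {P : Type*} [Group P] [Finite P],
    IsPGroup 2 P → ∀ K : Subgroup P, K.index ≤ 2 ^ n → derivedSeries P n ≤ K
  | 0, P, _, _, _, K, hK => by
    rw [derivedSeries_zero]
    have h1 : K.index = 1 := by
      have := Subgroup.index_ne_zero_of_finite (H := K)
      simp only [pow_zero] at hK
      omega
    rw [Subgroup.index_eq_one.1 h1]
  | n + 1, P, _, _, hP, K, hK => by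
    by_cases hK1 : K = ⊤
    · rw [hK1]; exact le_top
    haveI : Fact (Nat.Prime 2) := ⟨Nat.prime_two⟩
    obtain ⟨M, hKM, hMn, hMi⟩ := Cfsg.Agent.PGroup.exists_le_index_eq_prime hP hK1
    haveI := hMn
    have hcomm : derivedSeries P 1 ≤ M := by
      rw [derivedSeries_one]
      exact (Cfsg.Agent.PGroup.commutator_le_frattini hP).trans
        (frattini_le_coatom (Cfsg.Agent.PGroup.isCoatom_of_index_prime (by rw [hMi]; exact Fact.out)))
    have hKi : (K.subgroupOf M).index ≤ 2 ^ n := by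
      have h1 := Subgroup.relIndex_mul_index hKM
      rw [hMi] at h1
      change K.relIndex M ≤ 2 ^ n
      rw [pow_succ] at hK
      omega
    have h2 := derivedSeries_le_of_index n (hP.to_subgroup M) (K.subgroupOf M) hKi
    rw [add_comm]
    refine (Cfsg.Agent.FGS77.PLengthArith.derivedSeries_add_le hcomm n).trans ?_
    rintro _ ⟨x, hx, rfl⟩
    exact h2 hx

variable {K : Type*} [Field K] {V : Type*} [AddCommGroup V] [Module K V]
  (σ : H →* Module.End K V) (S : Subgroup H) (d : ℕ)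

/-- products of `n` factors `σ y - 1`, the last `y` in `derivedIn S (d - n)` -/
def opSet : ℕ → Set (Module.End K V)
  | 0 => {1}
  | n + 1 => {O | ∃ O' ∈ opSet n, ∃ y ∈ derivedIn S (d - (n + 1)), O = O' * (σ y - 1)}

/-- all products of full length vanish -/
def Kills : Prop := ∀ O ∈ opSet σ S d d, O = 0

variable {σ S d} (hk : Kills σ S d)
include hk

theorem Kills.mul_delta : ∀ i n, n + i = d → ∀ O ∈ opSet σ S d n,
    ∀ y ∈ derivedIn S i, O * (σ y - 1) = 0 := by
  intro i
  induction i with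
  | zero =>
    intro n hn O hO y _
    obtain rfl : n = d := by omega
    rw [hk O hO, zero_mul]
  | succ i ih =>
    intro n hn O hO y hy
    let W : Subgroup H :=
      { carrier := {y | O * (σ y - 1) = 0}
        one_mem' := by rw [Set.mem_setOf_eq, map_one, sub_self, mul_zero]
        mul_mem' := fun {a b} ha hb => by
          rw [Set.mem_setOf_eq] at ha hb ⊢
          calc O * (σ (a * b) - 1) = O * (σ a - 1) * σ b + O * (σ b - 1) := by
                rw [map_mul]; noncomm_ring
            _ = 0 := by rw [ha, hb, zero_mul, zero_add]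
        inv_mem' := fun {a} ha => by
          rw [Set.mem_setOf_eq] at ha ⊢
          have h1 : σ a * σ a⁻¹ = 1 := by rw [← map_mul, mul_inv_cancel, map_one]
          calc O * (σ a⁻¹ - 1) = O * (σ a⁻¹ - σ a * σ a⁻¹) := by rw [h1]
            _ = -(O * (σ a - 1)) * σ a⁻¹ := by noncomm_ring
            _ = 0 := by rw [ha, neg_zero, zero_mul] }
    suffices derivedIn S (i + 1) ≤ W from this hy
    rw [derivedIn_succ, Subgroup.commutator_le]
    intro a ha b hb
    change O * (σ ⁅a, b⁆ - 1) = 0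
    have hi : d - (n + 1) = i := by omega
    have ha' : O * (σ a - 1) ∈ opSet σ S d (n + 1) := ⟨O, hO, a, hi.symm ▸ ha, rfl⟩
    have hb' : O * (σ b - 1) ∈ opSet σ S d (n + 1) := ⟨O, hO, b, hi.symm ▸ hb, rfl⟩
    have h1 := ih (n + 1) (by omega) _ ha' b hb
    have h2 := ih (n + 1) (by omega) _ hb' a ha
    have e : σ b * σ a * (σ a⁻¹ * σ b⁻¹) = 1 := by
      rw [← map_mul, ← map_mul, ← map_mul, show b * a * (a⁻¹ * b⁻¹) = 1 by group, map_one]
    calc O * (σ ⁅a, b⁆ - 1)
        = O * (σ a * σ b * (σ a⁻¹ * σ b⁻¹) - σ b * σ a * (σ a⁻¹ * σ b⁻¹)) := by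
          rw [e, commutatorElement_def, map_mul, map_mul, map_mul, mul_assoc (σ a * σ b)]
      _ = (O * (σ a - 1) * (σ b - 1) - O * (σ b - 1) * (σ a - 1)) * (σ a⁻¹ * σ b⁻¹) := by
          noncomm_ring
      _ = 0 := by rw [h1, h2, sub_self, zero_mul]

theorem Kills.mul_delta_delta {n : ℕ} (hn : n < d) {O : Module.End K V} (hO : O ∈ opSet σ S d n)
    {y y' : H} (hy : y ∈ derivedIn S (d - (n + 1))) (hy' : y' ∈ derivedIn S (d - (n + 1))) :
    O * (σ y - 1) * (σ y' - 1) = 0 :=
  hk.mul_delta _ (n + 1) (by omega) _ ⟨O, hO, y, hy, rfl⟩ y' hy'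

theorem Kills.eq_one (hσ : Function.Injective σ) {y : H} (hy : y ∈ derivedIn S d) : y = 1 := by
  have h1 := hk.mul_delta d 0 (by omega) 1 rfl y hy
  rw [one_mul, sub_eq_zero] at h1
  exact hσ (h1.trans (map_one σ).symm)

omit hk

variable {Ω : Type*} [MulAction H Ω] {M : Ω → Submodule K V}

theorem opSet_mapsTo (hM : ∀ (h : H) (ω : Ω), ∀ v ∈ M ω, σ h v ∈ M (h • ω)) :
    ∀ n ≤ d, ∀ O ∈ opSet σ S d n, ∀ ω, ∀ v ∈ M ω,
      O v ∈ ⨆ μ ∈ MulAction.orbit (derivedIn S (d - n)) ω, M μ := by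
  intro n
  induction n with
  | zero =>
    intro _ O hO ω v hv
    rw [show O = 1 from hO, Module.End.one_apply]
    exact Submodule.mem_iSup_of_mem ω (Submodule.mem_iSup_of_mem (MulAction.mem_orbit_self ω) hv)
  | succ n ih =>
    rintro hn _ ⟨O, hO, y, hy, rfl⟩ ω v hv
    have hle : derivedIn S (d - n) ≤ derivedIn S (d - (n + 1)) := derivedIn_anti S (by omega)
    rw [Module.End.mul_apply, LinearMap.sub_apply, Module.End.one_apply, map_sub]
    have key : ∀ ν ∈ MulAction.orbit (derivedIn S (d - (n + 1))) ω, ∀ v ∈ M ν,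
        O v ∈ ⨆ μ ∈ MulAction.orbit (derivedIn S (d - (n + 1))) ω, M μ := by
      intro ν hν v hv
      refine (iSup₂_le fun μ hμ => ?_ :
        (⨆ μ ∈ MulAction.orbit (derivedIn S (d - n)) ν, M μ) ≤ _) (ih (by omega) O hO ν v hv)
      refine le_iSup₂_of_le μ ?_ le_rfl
      obtain ⟨g, rfl⟩ := hμ
      rw [← MulAction.orbit_eq_iff.2 hν]
      exact ⟨⟨g, hle g.2⟩, rfl⟩
    exact sub_mem (key (y • ω) ⟨⟨y, hy⟩, rfl⟩ _ (hM y ω v hv))
      (key ω (MulAction.mem_orbit_self ω) v hv)

include hk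

/-- The orbit lemma. -/
theorem Kills.fix_pred [Finite H] (hS : IsPGroup 2 S)
    (hM : ∀ (h : H) (ω : Ω), ∀ v ∈ M ω, σ h v ∈ M (h • ω)) (hind : iSupIndep M) {n : ℕ}
    (hn : n < d) {ω : Ω} {O₀ : Module.End K V} (hO₀ : O₀ ∈ opSet σ S d n) {w₀ : V}
    (hw₀ : w₀ ∈ M ω) (hne₀ : O₀ w₀ ≠ 0) (hfix : ∀ g ∈ derivedIn S (d - n), g • ω = ω)
    {g : H} (hg : g ∈ derivedIn S (d - (n + 1))) : g • ω = ω := by
  classical
  by_contra hgω
  have claim : ∀ j, n + j ≤ d → ∃ O ∈ opSet σ S d (n + j), ∃ w ∈ M ω, O w ≠ 0 ∧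
      (MulAction.orbit (derivedIn S (d - (n + j))) ω).ncard ≤ 2 ^ j := by
    intro j
    induction j with
    | zero =>
      intro _
      refine ⟨O₀, hO₀, w₀, hw₀, hne₀, ?_⟩
      rw [pow_zero]
      refine le_trans (Set.ncard_le_ncard (t := {ω}) ?_) (Set.ncard_singleton ω).le
      rintro _ ⟨⟨h, hh⟩, rfl⟩
      exact hfix h hh
    | succ j ih =>
      intro hj
      obtain ⟨O, hO, w, hw, hne, hcard⟩ := ih (by omega)
      rw [← add_assoc]
      set i := d - (n + j + 1) with hi
      have hii : d - (n + j) = i + 1 := by omega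
      rw [hii] at hcard
      set Δ := MulAction.orbit (derivedIn S (i + 1)) ω with hΔ
      have hmaps : ∀ ν, ∀ v ∈ M ν, O v ∈ ⨆ μ ∈ MulAction.orbit (derivedIn S (i + 1)) ν, M μ := by
        intro ν v hv
        rw [← hii]
        exact opSet_mapsTo hM _ (by omega) O hO ν v hv
      have hfinΔ : Δ.Finite := Set.finite_range _
      have hout : ∀ ν ∉ Δ, ∀ v ∈ M ν, O v ∈ ⨆ μ ∈ Δᶜ, M μ := by
        intro ν hν v hv
        refine (iSup₂_le fun μ hμ => le_iSup₂_of_le μ ?_ le_rfl :
          (⨆ μ ∈ MulAction.orbit (derivedIn S (i + 1)) ν, M μ) ≤ ⨆ μ ∈ Δᶜ, M μ) (hmaps ν v hv)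
        intro hμΔ
        refine hν ?_
        rw [hΔ, ← MulAction.orbit_eq_iff.2 hμΔ, MulAction.orbit_eq_iff.2 hμ]
        exact MulAction.mem_orbit_self ν
      have hdis : ∀ v, v ∈ (⨆ μ ∈ Δ, M μ) → v ∈ (⨆ μ ∈ Δᶜ, M μ) → v = 0 := fun v h1 h2 =>
        Submodule.disjoint_def.1 (hind.disjoint_biSup_biSup disjoint_compl_right) v h1 h2
      have hOw : O w ∈ ⨆ μ ∈ Δ, M μ := hmaps ω w hw
      -- some element moves the block
      obtain ⟨y, hy, hyΔ⟩ : ∃ y ∈ derivedIn S i, y • ω ∉ Δ := by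
        by_contra hall
        push Not at hall
        have hsub : MulAction.orbit (derivedIn S i) ω ⊆ Δ := by
          rintro _ ⟨⟨h, hh⟩, rfl⟩
          exact hall h hh
        have hidx : (MulAction.stabilizer (derivedIn S i) ω).index ≤ 2 ^ j := by
          rw [MulAction.index_stabilizer]
          exact (Set.ncard_le_ncard hsub hfinΔ).trans hcard
        have hle := derivedSeries_le_of_index j (hS.to_le (derivedIn_le S i)) _ hidx
        have hmem : g ∈ (derivedSeries (derivedIn S i) j).map (derivedIn S i).subtype := by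
          rw [derivedIn_eq, derivedIn_add, show i + j = d - (n + 1) by omega]
          exact hg
        obtain ⟨g', hg', rfl⟩ := hmem
        exact hgω (hle hg')
      refine ⟨O * (σ y - 1), ⟨O, hO, y, hy, rfl⟩, w, hw, ?_, ?_⟩
      · rw [Module.End.mul_apply, LinearMap.sub_apply, Module.End.one_apply, map_sub]
        intro h0
        rw [sub_eq_zero] at h0
        exact hne (hdis _ hOw (h0 ▸ hout _ hyΔ _ (hM y ω w hw)))
      · have hsub : MulAction.orbit (derivedIn S i) ω ⊆ Δ ∪ (fun ν => y⁻¹ • ν) '' Δ := by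
          rintro _ ⟨⟨y', hy'⟩, rfl⟩
          by_cases hy'Δ : y' • ω ∈ Δ
          · exact Or.inl hy'Δ
          refine Or.inr ⟨y • y' • ω, ?_, inv_smul_smul y _⟩
          by_contra hyy
          have h0 := LinearMap.congr_fun (hk.mul_delta_delta (n := n + j) (by omega) hO hy hy') w
          simp only [Module.End.mul_apply, LinearMap.sub_apply, Module.End.one_apply, map_sub,
            LinearMap.zero_apply] at h0
          refine hne (hdis _ hOw ?_)
          have e : O w = O (σ y w) + O (σ y' w) - O (σ y (σ y' w)) := by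
            rw [← sub_eq_zero, ← h0]; abel
          rw [e]
          exact sub_mem (add_mem (hout _ hyΔ _ (hM y ω w hw)) (hout _ hy'Δ _ (hM y' ω w hw)))
            (hout _ hyy _ (hM y _ _ (hM y' ω w hw)))
        calc (MulAction.orbit (derivedIn S i) ω).ncard
            ≤ (Δ ∪ (fun ν => y⁻¹ • ν) '' Δ).ncard :=
              Set.ncard_le_ncard hsub (hfinΔ.union (hfinΔ.image _))
          _ ≤ Δ.ncard + ((fun ν => y⁻¹ • ν) '' Δ).ncard := Set.ncard_union_le _ _
          _ ≤ Δ.ncard + Δ.ncard := Nat.add_le_add_left (Set.ncard_image_le hfinΔ) _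
          _ ≤ 2 ^ (j + 1) := by rw [pow_succ]; omega
  obtain ⟨O, hO, w, -, hne, -⟩ := claim (d - n) (by omega)
  rw [show n + (d - n) = d by omega] at hO
  exact hne (by rw [hk O hO, LinearMap.zero_apply])

end Cfsg.Agent.Bryukh6
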