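import Cfsg.Agent.Bryukh6.Orbit
import Cfsg.Agent.Lib.Fitting.Minimal
import Cfsg.Agent.Lib.Thompson.PSolvable
import Cfsg.Agent.FGS77.PLengthArith
import Cfsg.Agent.PF14.Compose

/-!
# Group-theoretic preparations for the derived-length bound on the 2-length
-/

set_option autoImplicit false

namespace Cfsg.Agent.Bryukh6

open Cfsg.Agent.FGS73 (derivedIn derivedIn_le map_derivedIn derivedIn_conj)
open scoped commutatorElement

universe u

/-- A 2-soluble group is soluble (odd order theorem). -/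
theorem isSolvable_of_isPSolvable_two {G : Type u} [Group G] [Finite G]
    (h : Cfsg.IsPSolvable 2 G) : Group.IsSolvable G := by
  obtain ⟨n, H, h0, hl, hm, hn, hi⟩ := h
  haveI : Fact (Nat.Prime 2) := ⟨Nat.prime_two⟩
  have key : ∀ i : Fin (n + 1), Group.IsSolvable (H i) := by
    intro i
    induction i using Fin.induction with
    | zero =>
      rw [h0]
      infer_instance
    | succ i ih =>
      have hle : H i.castSucc ≤ H i.succ := hm (Fin.castSucc_le_succ i)
      haveI := hn i.castSucc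
      let N := (H i.castSucc).subgroupOf (H i.succ)
      haveI : Group.IsSolvable N :=
        Group.isSolvable_of_surjective (f := (Subgroup.subgroupOfEquivOfLe hle).symm.toMonoidHom)
          (MulEquiv.surjective _)
      haveI : Group.IsSolvable (H i.succ ⧸ N) := by
        rcases hi i with ⟨m, hm2⟩ | hcop
        · haveI : Group.IsNilpotent (H i.succ ⧸ N) :=
            (IsPGroup.of_card (G := H i.succ ⧸ N) (n := m) hm2).isNilpotent
          infer_instance
        · refine Cfsg.Agent.PF14.feitThompson _ ?_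
          exact Nat.coprime_two_right.1 hcop
      exact Group.isSolvable_of_ker_le_range N.subtype (QuotientGroup.mk' N)
        (by rw [QuotientGroup.ker_mk', Subgroup.range_subtype])
  have := key (Fin.last n)
  rw [hl] at this
  exact Group.isSolvable_of_surjective (f := (⊤ : Subgroup G).subtype)
    (fun x => ⟨⟨x, Subgroup.mem_top x⟩, rfl⟩)

variable {H : Type*} [Group H] [Finite H]

/-- A normal subgroup of class at most two of the Fitting subgroup containing its centraliser. -/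
theorem exists_class_two (H : Type*) [Group H] [Finite H] :
    ∃ T : Subgroup H, T.Normal ∧ T ≤ Cfsg.fittingSubgroup H ∧
      (∀ a ∈ T, ∀ b ∈ T, ∀ c ∈ T, c * (a * b * a⁻¹ * b⁻¹) = a * b * a⁻¹ * b⁻¹ * c) ∧
      Subgroup.centralizer (T : Set H) ⊓ Cfsg.fittingSubgroup H ≤ T := by
  classical
  set F := Cfsg.fittingSubgroup H with hF
  obtain ⟨T, ⟨hTn, hTF, hT2⟩, hmax⟩ := ({T : Subgroup H | T.Normal ∧ T ≤ F ∧
      ∀ a ∈ T, ∀ b ∈ T, ∀ c ∈ T, c * (a * b * a⁻¹ * b⁻¹) = a * b * a⁻¹ * b⁻¹ * c}).toFinite.exists_maximal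
    ⟨⊥, inferInstance, bot_le, fun a ha b hb c hc => by
      rw [Subgroup.mem_bot.1 ha, Subgroup.mem_bot.1 hb, Subgroup.mem_bot.1 hc]; simp⟩
  refine ⟨T, hTn, hTF, hT2, ?_⟩
  by_contra hle
  haveI := hTn
  haveI : Group.IsNilpotent F := Cfsg.Agent.Fitting.fitting_isNilpotent
  let U : ℕ → Subgroup H := fun i => (Subgroup.upperCentralSeries F i).map F.subtype
  have hUn : ∀ i, (U i).Normal := fun i => Cfsg.Agent.Fitting.normal_map_subtype_of_characteristic _
  have hex : ∃ i, ¬ Subgroup.centralizer (T : Set H) ⊓ U i ≤ T := by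
    refine ⟨Group.nilpotencyClass F, ?_⟩
    simp only [U, Subgroup.upperCentralSeries_nilpotencyClass, ← MonoidHom.range_eq_map,
      Subgroup.range_subtype]
    exact hle
  let i := Nat.find hex
  have hi := Nat.find_spec hex
  set C := Subgroup.centralizer (T : Set H) with hC
  haveI : C.Normal := inferInstance
  haveI := hUn i
  set N := C ⊓ U i with hN
  have hcomm : ∀ n ∈ N, ∀ n' ∈ N, n * n' * n⁻¹ * n'⁻¹ ∈ C ⊓ T := by
    intro n hn n' hn'
    have hi0 : i ≠ 0 := by
      intro h0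
      apply hi
      show C ⊓ U i ≤ T
      rw [h0]
      simp [U]
    obtain ⟨j, hj⟩ := Nat.exists_eq_succ_of_ne_zero hi0
    have hlt : ¬ ¬ C ⊓ U j ≤ T := Nat.find_min hex (show j < Nat.find hex by omega)
    rw [not_not] at hlt
    have hc : n * n' * n⁻¹ * n'⁻¹ ∈ C :=
      C.mul_mem (C.mul_mem (C.mul_mem hn.1 hn'.1) (C.inv_mem hn.1)) (C.inv_mem hn'.1)
    refine ⟨hc, hlt ⟨hc, ?_⟩⟩
    obtain ⟨⟨x, hxF⟩, hx, rfl⟩ := hn.2
    obtain ⟨⟨y, hyF⟩, -, rfl⟩ := hn'.2
    rw [hj] at hx
    exact ⟨⁅(⟨x, hxF⟩ : F), ⟨y, hyF⟩⁆, Subgroup.mem_upperCentralSeries_succ_iff.1 hx _,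
      by simp [commutatorElement_def]⟩
  have hnew : T ⊔ N ∈ ({T : Subgroup H | T.Normal ∧ T ≤ F ∧
      ∀ a ∈ T, ∀ b ∈ T, ∀ c ∈ T, c * (a * b * a⁻¹ * b⁻¹) = a * b * a⁻¹ * b⁻¹ * c}) := by
    haveI : N.Normal := inferInstance
    refine ⟨inferInstance, sup_le hTF (inf_le_right.trans (Subgroup.map_subtype_le _)), ?_⟩
    intro a ha b hb c hc
    obtain ⟨t, ht, n, hn, rfl⟩ := Subgroup.mem_sup_of_normal_right.1 ha
    obtain ⟨t', ht', n', hn', rfl⟩ := Subgroup.mem_sup_of_normal_right.1 hb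
    obtain ⟨t'', ht'', n'', hn'', rfl⟩ := Subgroup.mem_sup_of_normal_right.1 hc
    have cN : ∀ x ∈ T, ∀ y ∈ N, x * y = y * x := fun x hx y hy =>
      Subgroup.mem_centralizer_iff.1 hy.1 x hx
    have e : t * n * (t' * n') * (t * n)⁻¹ * (t' * n')⁻¹ =
        (t * t' * t⁻¹ * t'⁻¹) * (n * n' * n⁻¹ * n'⁻¹) := by
      calc t * n * (t' * n') * (t * n)⁻¹ * (t' * n')⁻¹
          = t * (n * t') * n' * n⁻¹ * t⁻¹ * n'⁻¹ * t'⁻¹ := by group
        _ = t * t' * (n * n' * n⁻¹) * t⁻¹ * n'⁻¹ * t'⁻¹ := by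
            rw [← cN t' ht' n hn]; group
        _ = t * t' * t⁻¹ * ((n * n' * n⁻¹) * n'⁻¹) * t'⁻¹ := by
            have h3 : (n * n' * n⁻¹) * t⁻¹ = t⁻¹ * (n * n' * n⁻¹) :=
              (cN t⁻¹ (inv_mem ht) _ (mul_mem (mul_mem hn hn') (inv_mem hn))).symm
            calc t * t' * (n * n' * n⁻¹) * t⁻¹ * n'⁻¹ * t'⁻¹
                = t * t' * ((n * n' * n⁻¹) * t⁻¹) * n'⁻¹ * t'⁻¹ := by group
              _ = _ := by rw [h3]; group
        _ = (t * t' * t⁻¹ * t'⁻¹) * (n * n' * n⁻¹ * n'⁻¹) := by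
            have h3 : (n * n' * n⁻¹ * n'⁻¹) * t'⁻¹ = t'⁻¹ * (n * n' * n⁻¹ * n'⁻¹) :=
              (cN t'⁻¹ (inv_mem ht') _
                (mul_mem (mul_mem (mul_mem hn hn') (inv_mem hn)) (inv_mem hn'))).symm
            calc t * t' * t⁻¹ * ((n * n' * n⁻¹) * n'⁻¹) * t'⁻¹
                = t * t' * t⁻¹ * ((n * n' * n⁻¹ * n'⁻¹) * t'⁻¹) := by group
              _ = _ := by rw [h3]; group
    rw [e]
    set w := t * t' * t⁻¹ * t'⁻¹ with hw
    set z := n * n' * n⁻¹ * n'⁻¹ with hz
    have hwT : w ∈ T := mul_mem (mul_mem (mul_mem ht ht') (inv_mem ht)) (inv_mem ht')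
    have hzC := hcomm n hn n' hn'
    have w1 : t'' * w = w * t'' := hT2 t ht t' ht' t'' ht''
    have w2 : n'' * w = w * n'' := (cN w hwT n'' hn'').symm
    have z1 : t'' * z = z * t'' := Subgroup.mem_centralizer_iff.1 hzC.1 t'' ht''
    have z2 : n'' * z = z * n'' := (cN z hzC.2 n'' hn'').symm
    calc t'' * n'' * (w * z) = t'' * (n'' * w) * z := by group
      _ = (t'' * w) * (n'' * z) := by rw [w2]; group
      _ = w * t'' * (z * n'') := by rw [w1, z2]
      _ = w * (t'' * z) * n'' := by group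
      _ = w * z * (t'' * n'') := by rw [z1]; group
  exact hi fun x hx => hmax hnew le_sup_left (Subgroup.mem_sup_right hx)

/-- A 2-element centralising such a subgroup is trivial when the Fitting subgroup has odd order. -/
theorem eq_one_of_centralizes [Group.IsSolvable H] {T : Subgroup H}
    (hTF : T ≤ Cfsg.fittingSubgroup H)
    (hC : Subgroup.centralizer (T : Set H) ⊓ Cfsg.fittingSubgroup H ≤ T) [T.Normal]
    (hodd : Odd (Nat.card (Cfsg.fittingSubgroup H))) {s : H} {m : ℕ} (hs : s ^ 2 ^ m = 1)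
    (hsT : ∀ t ∈ T, s * t = t * s) : s = 1 := by
  set F := Cfsg.fittingSubgroup H with hF
  have hsinv : ∀ t ∈ T, s * t * s⁻¹ = t := fun t ht => by rw [hsT t ht, mul_inv_cancel_right]
  have key : ∀ g ∈ F, s * g * s⁻¹ = g := by
    intro g hg
    set c := g⁻¹ * (s * g * s⁻¹) with hc
    have hcF : c ∈ F := mul_mem (inv_mem hg) (Cfsg.Agent.Fitting.fitting_normal.conj_mem g hg s)
    have hcT : c ∈ T := by
      refine hC ⟨Subgroup.mem_centralizer_iff.2 fun t ht => ?_, hcF⟩
      have h1 : g * t * g⁻¹ ∈ T := Subgroup.Normal.conj_mem inferInstance t ht g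
      have h2 : s * g * s⁻¹ * t * (s * g * s⁻¹)⁻¹ = g * t * g⁻¹ := by
        have h3 := hsinv _ h1
        have h4 : s⁻¹ * t * s = t := by
          calc s⁻¹ * t * s = s⁻¹ * (t * s) := by group
            _ = t := by rw [← hsT t ht]; group
        calc s * g * s⁻¹ * t * (s * g * s⁻¹)⁻¹ = s * (g * (s⁻¹ * t * s) * g⁻¹) * s⁻¹ := by group
          _ = _ := by rw [h4, h3]
      calc t * c = g⁻¹ * (g * t * g⁻¹) * (s * g * s⁻¹) := by rw [hc]; group
        _ = c * t := by rw [← h2, hc]; group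
    have hit : ∀ j : ℕ, s ^ j * g * (s ^ j)⁻¹ = g * c ^ j := by
      intro j
      induction j with
      | zero => simp
      | succ j ih =>
        calc s ^ (j + 1) * g * (s ^ (j + 1))⁻¹ = s * (s ^ j * g * (s ^ j)⁻¹) * s⁻¹ := by
              rw [pow_succ']; group
          _ = (s * g * s⁻¹) * (s * c ^ j * s⁻¹) := by rw [ih]; group
          _ = g * c ^ (j + 1) := by
              rw [hsinv _ (pow_mem hcT j), show s * g * s⁻¹ = g * c by rw [hc]; group, mul_assoc,
                ← pow_succ']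
    have h5 := hit (2 ^ m)
    rw [hs, one_mul, inv_one, mul_one, left_eq_mul] at h5
    have h6 : orderOf c ∣ Nat.card F :=
      (Subgroup.orderOf_coe (⟨c, hcF⟩ : F)).symm ▸ orderOf_dvd_natCard (⟨c, hcF⟩ : F)
    have h7 := Nat.dvd_gcd (orderOf_dvd_of_pow_eq_one h5) h6
    rw [((Nat.coprime_two_left.2 hodd).pow_left m).gcd_eq_one, Nat.dvd_one, orderOf_eq_one_iff,
      hc, inv_mul_eq_one] at h7
    exact h7.symm
  have hsF : s ∈ F := Cfsg.Agent.Fitting.centralizer_fitting_le
    (Subgroup.mem_centralizer_iff.2 fun g hg => by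
      conv_lhs => rw [← key g hg]
      group)
  have h6 : orderOf s ∣ Nat.card F :=
    (Subgroup.orderOf_coe (⟨s, hsF⟩ : F)).symm ▸ orderOf_dvd_natCard (⟨s, hsF⟩ : F)
  have h7 := Nat.dvd_gcd (orderOf_dvd_of_pow_eq_one hs) h6
  rwa [((Nat.coprime_two_left.2 hodd).pow_left m).gcd_eq_one, Nat.dvd_one, orderOf_eq_one_iff] at h7

/-- iterated commutators of `M` with the derived series of `S` -/
def chainIn {G : Type*} [Group G] (S M : Subgroup G) : ℕ → Subgroup G
  | 0 => M
  | i + 1 => ⁅chainIn S M i, derivedIn S i⁆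

section chain

variable {G G' : Type*} [Group G] [Group G'] {S M : Subgroup G}

theorem map_chainIn (f : G →* G') (S M : Subgroup G) :
    ∀ i, (chainIn S M i).map f = chainIn (S.map f) (M.map f) i
  | 0 => rfl
  | i + 1 => by rw [chainIn, chainIn, Subgroup.map_commutator, map_chainIn f S M i, map_derivedIn]

theorem chainIn_le_derived (hM : M ≤ S) : ∀ i, chainIn S M i ≤ derivedIn S i
  | 0 => hM
  | i + 1 => by
    rw [chainIn, derivedIn_succ]
    exact Subgroup.commutator_mono (chainIn_le_derived hM i) le_rfl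

theorem conj_mem_chainIn (hn : ∀ s ∈ S, ∀ x ∈ M, s * x * s⁻¹ ∈ M) :
    ∀ i, ∀ s ∈ S, ∀ x ∈ chainIn S M i, s * x * s⁻¹ ∈ chainIn S M i
  | 0 => hn
  | i + 1 => by
    intro s hs
    suffices chainIn S M (i + 1) ≤ (chainIn S M (i + 1)).comap (MulAut.conj s).toMonoidHom from
      fun x hx => this hx
    rw [chainIn, Subgroup.commutator_le]
    intro a ha b hb
    show s * ⁅a, b⁆ * s⁻¹ ∈ ⁅chainIn S M i, derivedIn S i⁆
    rw [show s * ⁅a, b⁆ * s⁻¹ = ⁅s * a * s⁻¹, s * b * s⁻¹⁆ by
      simp [commutatorElement_def, mul_assoc]]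
    exact Subgroup.commutator_mem_commutator (conj_mem_chainIn hn i s hs a ha)
      (derivedIn_conj S i hs hb)

theorem chainIn_succ_le (hn : ∀ s ∈ S, ∀ x ∈ M, s * x * s⁻¹ ∈ M) (i : ℕ) :
    chainIn S M (i + 1) ≤ chainIn S M i := by
  rw [chainIn, Subgroup.commutator_le]
  intro a ha b hb
  rw [commutatorElement_def, mul_assoc a b, mul_assoc a]
  exact mul_mem ha (conj_mem_chainIn hn i b (derivedIn_le S i hb) a⁻¹ (inv_mem ha))

theorem chainIn_anti (hn : ∀ s ∈ S, ∀ x ∈ M, s * x * s⁻¹ ∈ M) {i j : ℕ} (h : i ≤ j) :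
    chainIn S M j ≤ chainIn S M i := by
  induction h with
  | refl => exact le_rfl
  | step _ ih => exact (chainIn_succ_le hn _).trans ih

/-- the operator products compute the iterated commutators -/
theorem opSet_class {F : Type*} [Field F] {W : Type*} [AddCommGroup W] [Module F W]
    {Y X : Type*} [Group Y] [Group X] (π : Y →* X) (σ : X →* Module.End F W)
    {R : Subgroup Y} [R.Normal] (cls : R → W) (hmul : ∀ a b : R, cls (a * b) = cls a + cls b)
    (heq : ∀ y u, σ (π y) (cls u) = cls (MulAut.conjNormal y u))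
    {S M : Subgroup Y} {d : ℕ} :
    ∀ n ≤ d, ∀ O ∈ opSet σ (S.map π) d n, ∀ u : R, (u : Y) ∈ chainIn S M (d - n) →
      ∃ w : R, (w : Y) ∈ chainIn S M d ∧ O (cls u) = cls w := by
  intro n
  induction n with
  | zero =>
    intro _ O hO u hu
    exact ⟨u, by simpa using hu, by rw [show O = 1 from hO, Module.End.one_apply]⟩
  | succ n ih =>
    rintro hn _ ⟨O, hO, x, hx, rfl⟩ u hu
    rw [← map_derivedIn] at hx
    obtain ⟨y, hy, rfl⟩ := hx
    obtain ⟨w, hw, hwe⟩ := ih (by omega) O hO (MulAut.conjNormal y u * u⁻¹) (by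
      rw [show d - n = d - (n + 1) + 1 by omega, chainIn]
      have h1 := inv_mem (Subgroup.commutator_mem_commutator (g₁ := (u : Y)) (g₂ := y) hu hy)
      rw [commutatorElement_inv] at h1
      simpa [MulAut.conjNormal_apply, commutatorElement_def] using h1)
    refine ⟨w, hw, ?_⟩
    have h2 : σ (π y) (cls u) = cls (MulAut.conjNormal y u * u⁻¹) + cls u := by
      rw [← hmul, inv_mul_cancel_right, heq]
    rw [Module.End.mul_apply, LinearMap.sub_apply, Module.End.one_apply, h2, add_sub_cancel_right,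
      hwe]

end chain

/-- Lifting a bound on the `p`-length through `O_{p',p}`. -/
theorem plength_lift {G X : Type*} [Group G] [Finite G] [Group X] [Finite X] {p : ℕ} [Fact p.Prime]
    (f : G →* X) (hf : Function.Surjective f)
    (hker : f.ker ≤ (Cfsg.upperPSeries p G 2).1) {k : ℕ} (h : Cfsg.PLengthLE p k X) :
    Cfsg.PLengthLE p (k + 1) G := by
  have hrel : ∀ A B : Subgroup X, (A.comap f).relIndex (B.comap f) = A.relIndex B := fun A B => by
    rw [Subgroup.relIndex_comap, Subgroup.map_comap_eq_self_of_surjective hf]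
  have key : ∀ j, (Cfsg.upperPSeries p X (2 * j + 1)).1.comap f ≤
      (Cfsg.upperPSeries p G (2 * (j + 1) + 1)).1 := by
    intro j
    induction j with
    | zero =>
      haveI := (Cfsg.upperPSeries p X 1).2
      refine Cfsg.Agent.FGS77.PLengthArith.absorb_coprime (N := (Cfsg.upperPSeries p X 0).1.comap f)
        ?_ ?_
      · rw [hrel]
        exact Cfsg.Agent.FGS77.PLengthArith.upper_step_even Even.zero
      · rw [show (Cfsg.upperPSeries p X 0).1 = ⊥ by simp [Cfsg.upperPSeries], MonoidHom.comap_bot]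
        exact hker.trans (Cfsg.Agent.FGS77.PLengthArith.le_upper_add (by omega))
    | succ j ih =>
      haveI := (Cfsg.upperPSeries p X (2 * j + 2)).2
      haveI := (Cfsg.upperPSeries p X (2 * (j + 1) + 1)).2
      have h1 : (Cfsg.upperPSeries p X (2 * j + 2)).1.comap f ≤
          (Cfsg.upperPSeries p G (2 * (j + 1) + 2)).1 := by
        refine Cfsg.Agent.FGS77.PLengthArith.absorb_pow ?_ ih
        rw [hrel]
        exact Cfsg.Agent.FGS77.PLengthArith.upper_step_odd (n := 2 * j + 1) (by simp)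
      refine Cfsg.Agent.FGS77.PLengthArith.absorb_coprime
        (N := (Cfsg.upperPSeries p X (2 * j + 2)).1.comap f) ?_
        (h1.trans (Cfsg.Agent.FGS77.PLengthArith.le_upper_add (by omega)))
      rw [hrel]
      exact Cfsg.Agent.FGS77.PLengthArith.upper_step_even (n := 2 * j + 2) (by simp [parity_simps])
  have h2 := key k
  rw [show (Cfsg.upperPSeries p X (2 * k + 1)).1 = ⊤ from h, Subgroup.comap_top, top_le_iff] at h2
  exact h2

end Cfsg.Agent.Bryukh6
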